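import Mathlib
import Cfsg.Prelude.Def_CaseTheorems

/-!
# A solvability criterion with pairs of elements of coprime prime power orders (for S3843)

`Crit G`: for `x`, `y` of prime power orders for different primes, if `⟨x, y⟩` is solvable then so is
`⟨x, y^g⟩` for every `g`.  The criterion passes to subgroups and to quotients by solvable normal subgroups;
`not_crit`: it fails in a minimal simple group with an element `x` of prime power order that is contained in a
unique maximal subgroup (which is not a group of prime power order).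
-/

set_option autoImplicit false

namespace Cfsg.Agent.H983.PairCrit

open Cfsg Subgroup

/-- The condition of S3843. -/
def Crit (G : Type*) [Group G] : Prop :=
  ∀ p q : ℕ, p.Prime → q.Prime → p ≠ q → ∀ x y : G, (∃ k : ℕ, orderOf x = p ^ k) →
    (∃ k : ℕ, orderOf y = q ^ k) → Group.IsSolvable ↥(Subgroup.closure ({x, y} : Set G)) →
    ∀ g : G, Group.IsSolvable ↥(Subgroup.closure ({x, g * y * g⁻¹} : Set G))

theorem closure_pair_map {G H : Type*} [Group G] [Group H] (f : G →* H) (x y : G) :
    (Subgroup.closure ({x, y} : Set G)).map f = Subgroup.closure ({f x, f y} : Set H) := by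
  rw [MonoidHom.map_closure, Set.image_pair]

theorem solvable_map {G H : Type*} [Group G] [Group H] (f : G →* H) {K : Subgroup G}
    (h : Group.IsSolvable K) : Group.IsSolvable (K.map f) :=
  Group.isSolvable_of_surjective (MonoidHom.subgroupMap_surjective f K)

theorem solvable_of_map_injective {G H : Type*} [Group G] [Group H] (f : G →* H)
    (hf : Function.Injective f) {K : Subgroup G} (h : Group.IsSolvable (K.map f)) :
    Group.IsSolvable K :=
  Group.isSolvable_of_isSolvable_injective (f := (K.equivMapOfInjective f hf).toMonoidHom)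
    (K.equivMapOfInjective f hf).injective

/-- A subgroup with solvable image under a homomorphism with solvable kernel is solvable. -/
theorem solvable_of_map {G H : Type*} [Group G] [Group H] (f : G →* H)
    (hk : Group.IsSolvable f.ker) {K : Subgroup G} (h : Group.IsSolvable (K.map f)) :
    Group.IsSolvable K := by
  have hk' : Group.IsSolvable ((f.ker).subgroupOf K) :=
    Group.isSolvable_of_isSolvable_injective (f := (K.subtype.comp ((f.ker).subgroupOf K).subtype).codRestrict f.ker
      (fun x => x.2)) (by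
        intro a b hab
        apply Subtype.ext
        apply Subtype.ext
        exact congrArg (fun z : f.ker => (z : G)) hab)
  refine Group.isSolvable_of_ker_le_range ((f.ker).subgroupOf K).subtype (f.subgroupMap K) ?_
  intro x hx
  rw [Subgroup.range_subtype, Subgroup.mem_subgroupOf]
  exact congrArg Subtype.val hx

theorem Crit.of_injective {G H : Type*} [Group G] [Group H] (f : G →* H)
    (hf : Function.Injective f) (h : Crit H) : Crit G := by
  intro p q hp hq hpq x y hx hy hs g
  have h1 := h p q hp hq hpq (f x) (f y) (by rwa [orderOf_injective f hf])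
    (by rwa [orderOf_injective f hf]) (by
      rw [← closure_pair_map]
      exact solvable_map f hs) (f g)
  rw [← map_inv, ← map_mul, ← map_mul, ← closure_pair_map] at h1
  exact solvable_of_map_injective f hf h1

theorem Crit.subgroup {G : Type*} [Group G] (h : Crit G) (H : Subgroup G) : Crit H :=
  h.of_injective H.subtype H.subtype_injective

/-- Lifting elements of prime power order. -/
theorem exists_lift {G H : Type*} [Group G] [Finite G] [Group H] (f : G →* H)
    (hf : Function.Surjective f) {p : ℕ} (hp : p.Prime) {y : H} (hy : ∃ k, orderOf y = p ^ k) :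
    ∃ x : G, f x = y ∧ ∃ k, orderOf x = p ^ k := by
  obtain ⟨x₀, rfl⟩ := hf y
  obtain ⟨k, hk⟩ := hy
  obtain ⟨a, m, hm, hn⟩ := Nat.exists_eq_pow_mul_and_not_dvd (orderOf_pos x₀).ne' p hp.ne_one
  have hcop : Nat.Coprime m (p ^ a) := by
    apply Nat.Coprime.pow_right
    exact ((Nat.Prime.coprime_iff_not_dvd hp).mpr hm).symm
  have hka : k ≤ a := by
    have h1 : p ^ k ∣ p ^ a * m := by
      rw [← hn, ← hk]
      exact orderOf_map_dvd f x₀
    have h2 : p ^ k ∣ p ^ a :=
      Nat.Coprime.dvd_of_dvd_mul_right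
        (Nat.Coprime.pow_left _ ((Nat.Prime.coprime_iff_not_dvd hp).mpr hm)) h1
    exact (Nat.pow_dvd_pow_iff_le_right hp.one_lt).mp h2
  -- `m * m' ≡ 1` modulo `p ^ a`
  obtain ⟨m', hm'⟩ : ∃ m' : ℕ, m * m' ≡ 1 [MOD p ^ a] := by
    rcases Nat.eq_zero_or_pos a with ha | ha
    · exact ⟨1, by rw [ha, pow_zero]; exact Nat.modEq_one⟩
    · obtain ⟨m', hm'⟩ := Nat.exists_mul_mod_eq_one_of_coprime hcop
        (Nat.one_lt_pow ha.ne' hp.one_lt)
      refine ⟨m', ?_⟩
      unfold Nat.ModEq
      rw [hm'.2, Nat.mod_eq_of_lt (Nat.one_lt_pow ha.ne' hp.one_lt)]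
  refine ⟨x₀ ^ (m * m'), ?_, ?_⟩
  · rw [map_pow]
    have h1 : m * m' ≡ 1 [MOD orderOf (f x₀)] := by
      rw [hk]
      exact hm'.of_dvd (pow_dvd_pow p hka)
    have h2 := pow_eq_pow_iff_modEq.mpr h1
    rw [h2, pow_one]
  · have h1 : orderOf (x₀ ^ (m * m')) ∣ p ^ a := by
      rw [orderOf_dvd_iff_pow_eq_one, ← pow_mul]
      have : m * m' * p ^ a = orderOf x₀ * m' := by rw [hn]; ring
      rw [this, pow_mul, pow_orderOf_eq_one, one_pow]
    obtain ⟨j, -, hj⟩ := (Nat.dvd_prime_pow hp).mp h1
    exact ⟨j, hj⟩

theorem Crit.of_surjective {G H : Type*} [Group G] [Finite G] [Group H] (f : G →* H)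
    (hf : Function.Surjective f) (hk : Group.IsSolvable f.ker) (h : Crit G) : Crit H := by
  intro p q hp hq hpq x y hx hy hs g
  obtain ⟨x', rfl, hx'⟩ := exists_lift f hf hp hx
  obtain ⟨y', rfl, hy'⟩ := exists_lift f hf hq hy
  obtain ⟨g', rfl⟩ := hf g
  rw [← closure_pair_map] at hs
  have h1 := h p q hp hq hpq x' y' hx' hy' (solvable_of_map f hk hs) g'
  rw [← map_inv, ← map_mul, ← map_mul, ← closure_pair_map]
  exact solvable_map f h1

theorem crit_of_solvable {G : Type*} [Group G] (h : Group.IsSolvable G) : Crit G := by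
  intro p q hp hq hpq x y hx hy hs g
  infer_instance

/-- The contradiction in a minimal simple group. -/
theorem not_crit {G : Type*} [Group G] [Finite G] (hG : IsMinimalSimple G) {x y : G} {p q : ℕ}
    (hp : p.Prime) (hq : q.Prime) (hpq : p ≠ q) (hx : ∃ k, orderOf x = p ^ k)
    (hy : ∃ k, orderOf y = q ^ k) (hy1 : y ≠ 1) (M : Subgroup G) (hM : M ≠ ⊤)
    (hMH : ∀ H : Subgroup G, H ≠ ⊤ → x ∈ H → H ≤ M) (hyM : y ∈ M) (hxM : x ∈ M) : ¬ Crit G := by
  intro hc
  have hsimp : IsSimpleGroup G := hG.1
  have hns : ¬ Group.IsSolvable G := by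
    intro hs
    exact hG.2.1 ⟨⟨IsSimpleGroup.comm_iff_isSolvable.mpr hs⟩⟩
  have h1 : Subgroup.closure ({x, y} : Set G) ≤ M := by
    rw [Subgroup.closure_le]
    rintro z (rfl | rfl)
    · exact hxM
    · exact hyM
  have h2 : Group.IsSolvable ↥(Subgroup.closure ({x, y} : Set G)) := by
    apply hG.2.2
    intro h
    exact hM (top_le_iff.mp (h ▸ h1))
  have h3 : ∀ g : G, g * y * g⁻¹ ∈ M := by
    intro g
    have h4 := hc p q hp hq hpq x y hx hy h2 g
    have h5 : Subgroup.closure ({x, g * y * g⁻¹} : Set G) ≠ ⊤ := by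
      intro h
      apply hns
      rw [h] at h4
      exact Group.isSolvable_of_surjective (f := (Subgroup.topEquiv (G := G)).toMonoidHom)
        (Subgroup.topEquiv (G := G)).surjective
    exact hMH _ h5 (Subgroup.subset_closure (by simp)) (Subgroup.subset_closure (by simp))
  have h6 : Subgroup.normalClosure ({y} : Set G) ≤ M := by
    unfold Subgroup.normalClosure
    rw [Subgroup.closure_le]
    intro z hz
    obtain ⟨w, hw, hwz⟩ := Group.mem_conjugatesOfSet_iff.mp hz
    rw [Set.mem_singleton_iff] at hw
    subst hw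
    obtain ⟨g, hg⟩ := isConj_iff.mp hwz
    rw [← hg]
    exact h3 g
  rcases (Subgroup.normalClosure_normal (s := ({y} : Set G))).eq_bot_or_eq_top with h | h
  · apply hy1
    have : y ∈ Subgroup.normalClosure ({y} : Set G) :=
      Subgroup.subset_normalClosure (Set.mem_singleton y)
    rw [h] at this
    exact this
  · rw [h] at h6
    exact hM (top_le_iff.mp h6)

/-- The contradiction in a minimal simple group, normaliser form. -/
theorem not_crit_of_norm {G : Type*} [Group G] [Finite G] (hG : IsMinimalSimple G) {x y : G}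
    {p q : ℕ} (hp : p.Prime) (hq : q.Prime) (hpq : p ≠ q) (hx : ∃ k, orderOf x = p ^ k)
    (hx1 : x ≠ 1) (hy : ∃ k, orderOf y = q ^ k) (hy1 : y ≠ 1)
    (hyM : y ∈ normalizer (zpowers x : Set G))
    (hMH : ∀ H : Subgroup G, H ≠ ⊤ → x ∈ H → H ≤ normalizer (zpowers x : Set G)) : ¬ Crit G := by
  have hsimp : IsSimpleGroup G := hG.1
  refine not_crit hG hp hq hpq hx hy hy1 (normalizer (zpowers x : Set G)) ?_ hMH hyM
    (le_normalizer (mem_zpowers x))
  intro h
  have hn : (zpowers x).Normal := normalizer_eq_top_iff.mp h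
  rcases hn.eq_bot_or_eq_top with h1 | h1
  · exact hx1 (zpowers_eq_bot.mp h1)
  · apply hG.2.1
    refine ⟨⟨fun a b => ?_⟩⟩
    have ha : a ∈ zpowers x := h1 ▸ mem_top a
    have hb : b ∈ zpowers x := h1 ▸ mem_top b
    obtain ⟨i, rfl⟩ := mem_zpowers_iff.mp ha
    obtain ⟨j, rfl⟩ := mem_zpowers_iff.mp hb
    rw [← zpow_add, ← zpow_add, add_comm]

/-- A finite insoluble group has a minimal simple section with solvable kernel. -/
theorem exists_section {G : Type*} [Group G] [Finite G] (hG : ¬ Group.IsSolvable G) :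
    ∃ (H : Subgroup G) (N : Subgroup H) (_ : N.Normal), Group.IsSolvable N ∧
      IsMinimalSimple (H ⧸ N) := by
  classical
  -- minimal insoluble subgroup
  obtain ⟨H, hH, hmin⟩ : ∃ H : Subgroup G, ¬ Group.IsSolvable H ∧
      ∀ K : Subgroup G, K < H → Group.IsSolvable K := by
    have hne : ({H : Subgroup G | ¬ Group.IsSolvable H}).Nonempty := by
      refine ⟨⊤, fun h => hG ?_⟩
      exact Group.isSolvable_of_surjective (f := (Subgroup.topEquiv (G := G)).toMonoidHom)
        (Subgroup.topEquiv (G := G)).surjective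
    obtain ⟨H, hH⟩ := (Set.toFinite {H : Subgroup G | ¬ Group.IsSolvable H}).exists_minimal hne
    refine ⟨H, hH.prop, fun K hK => ?_⟩
    by_contra h
    exact absurd (hH.le_of_le h hK.le) (not_le_of_gt hK)
  have hsub : ∀ K : Subgroup H, K ≠ ⊤ → Group.IsSolvable K := by
    intro K hK
    have h1 : K.map H.subtype < H := by
      refine lt_of_le_of_ne (Subgroup.map_subtype_le K) ?_
      intro h
      apply hK
      rw [eq_top_iff]
      intro x _
      have hx : (x : G) ∈ K.map H.subtype := by rw [h]; exact x.2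
      obtain ⟨y, hy, hyx⟩ := hx
      have : y = x := Subtype.ext hyx
      rwa [← this]
    have h2 := hmin _ h1
    let e := K.equivMapOfInjective H.subtype H.subtype_injective
    exact Group.isSolvable_of_surjective (f := e.symm.toMonoidHom) e.symm.surjective
  -- maximal normal subgroup
  obtain ⟨N, hN, hNt, hmax⟩ : ∃ N : Subgroup H, N.Normal ∧ N ≠ ⊤ ∧
      ∀ M : Subgroup H, M.Normal → N ≤ M → M = N ∨ M = ⊤ := by
    have hnt : Nontrivial H := by
      by_contra h
      rw [not_nontrivial_iff_subsingleton] at h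
      exact hH inferInstance
    have hne : ({N : Subgroup H | N.Normal ∧ N ≠ ⊤}).Nonempty :=
      ⟨⊥, inferInstance, bot_ne_top⟩
    obtain ⟨N, hN⟩ := (Set.toFinite {N : Subgroup H | N.Normal ∧ N ≠ ⊤}).exists_maximal hne
    refine ⟨N, hN.prop.1, hN.prop.2, fun M hM hNM => ?_⟩
    by_cases h : M = ⊤
    · exact Or.inr h
    · exact Or.inl (le_antisymm (hN.le_of_ge ⟨hM, h⟩ hNM) hNM)
  refine ⟨H, N, hN, hsub N hNt, ?_, ?_, ?_⟩
  · have hnt : Nontrivial (H ⧸ N) := QuotientGroup.nontrivial_iff.mpr hNt
    refine { exists_pair_ne := hnt.exists_pair_ne, eq_bot_or_eq_top_of_normal := ?_ }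
    intro K hK
    have h1 : (K.comap (QuotientGroup.mk' N)).Normal := inferInstance
    have h2 : N ≤ K.comap (QuotientGroup.mk' N) := by
      intro x hx
      rw [Subgroup.mem_comap]
      have : QuotientGroup.mk' N x = 1 := (QuotientGroup.eq_one_iff _).mpr hx
      rw [this]
      exact K.one_mem
    have h3 := Subgroup.map_comap_eq_self_of_surjective (QuotientGroup.mk'_surjective N) K
    rcases hmax _ h1 h2 with h | h
    · left
      rw [← h3, h]
      ext x
      simp only [Subgroup.mem_map, Subgroup.mem_bot]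
      constructor
      · rintro ⟨y, hy, rfl⟩
        exact (QuotientGroup.eq_one_iff _).mpr hy
      · rintro rfl
        exact ⟨1, N.one_mem, map_one _⟩
    · right
      rw [← h3, h]
      exact Subgroup.map_top_of_surjective _ (QuotientGroup.mk'_surjective N)
  · intro hc
    apply hH
    have h1 : Group.IsSolvable N := hsub N hNt
    have h2 : Group.IsSolvable (H ⧸ N) := Group.isSolvable_of_comm mul_comm'
    exact (Group.isSolvable_iff_subgroup_quotient N).mpr ⟨h1, h2⟩
  · intro K hK
    have h3 := Subgroup.map_comap_eq_self_of_surjective (QuotientGroup.mk'_surjective N) K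
    have h4 : K.comap (QuotientGroup.mk' N) ≠ ⊤ := by
      intro h
      apply hK
      rw [← h3, h]
      exact Subgroup.map_top_of_surjective _ (QuotientGroup.mk'_surjective N)
    have h5 := hsub _ h4
    have h6 : Group.IsSolvable ((K.comap (QuotientGroup.mk' N)).map (QuotientGroup.mk' N)) :=
      Group.isSolvable_of_surjective (MonoidHom.subgroupMap_surjective (QuotientGroup.mk' N) _)
    rwa [h3] at h6

/-- The reduction to minimal simple groups. -/
theorem solvable_of_crit {G : Type*} [Group G] [Finite G]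
    (hms : ∀ (H : Subgroup G) (N : Subgroup H) (_ : N.Normal), IsMinimalSimple (H ⧸ N) →
      ¬ Crit (H ⧸ N)) (h : Crit G) : Group.IsSolvable G := by
  by_contra hG
  obtain ⟨H, N, hN, hNs, hm⟩ := exists_section hG
  refine hms H N hN hm ?_
  refine Crit.of_surjective (QuotientGroup.mk' N) (QuotientGroup.mk'_surjective N) ?_ (h.subgroup H)
  rw [QuotientGroup.ker_mk']
  exact hNs

end Cfsg.Agent.H983.PairCrit
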