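import Mathlib
import Cfsg.Agent.H983.PairCrit
import Cfsg.Agent.Classification.CoprimeTriple
import Cfsg.Agent.Classification.PSLThreeTriple

/-!
# Pairs and coprime triples; `PSL₃(3)` (for S3843)
-/

set_option autoImplicit false

namespace Cfsg.Agent.H983.PairTriple

open Cfsg Subgroup
open Cfsg.Agent.H983.PairCrit
open Cfsg.Agent.Classification.CoprimeTriple
open Cfsg.Agent.Classification

theorem solvable_zpowers {G : Type*} [Group G] (x : G) : Group.IsSolvable (zpowers x) := by
  refine Group.isSolvable_of_comm fun a b => ?_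
  obtain ⟨_, i, rfl⟩ := a
  obtain ⟨_, j, rfl⟩ := b
  apply Subtype.ext
  change x ^ i * x ^ j = x ^ j * x ^ i
  rw [← zpow_add, ← zpow_add, add_comm]

/-- If `x` normalises `⟨y⟩` then `⟨x, y⟩` is solvable. -/
theorem solvable_pair {G : Type*} [Group G] {x y : G} (h : x ∈ normalizer (zpowers y : Set G)) :
    Group.IsSolvable ↥(closure ({x, y} : Set G)) := by
  set n := normalizer (zpowers y : Set G) with hn
  have hy : y ∈ n := le_normalizer (mem_zpowers y)
  set Z : Subgroup n := (zpowers y).subgroupOf n with hZ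
  have hZn : Z.Normal := Subgroup.normal_in_normalizer
  set f := QuotientGroup.mk' Z with hf
  have hZs : Group.IsSolvable Z := by
    have := solvable_zpowers y
    refine Group.isSolvable_of_isSolvable_injective
      (f := ((n.subtype.comp Z.subtype).codRestrict (zpowers y) (fun z => mem_subgroupOf.mp z.2))) ?_
    intro a b hab
    apply Subtype.ext
    apply Subtype.ext
    exact congrArg (fun z : zpowers y => (z : G)) hab
  have hK : Group.IsSolvable ↥(closure ({(⟨x, h⟩ : n), ⟨y, hy⟩} : Set n)) := by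
    apply solvable_of_map f
    · rw [hf, QuotientGroup.ker_mk']; exact hZs
    · rw [closure_pair_map]
      have h1 : f ⟨y, hy⟩ = 1 := by
        rw [hf]
        exact (QuotientGroup.eq_one_iff _).mpr (mem_subgroupOf.mpr (mem_zpowers y))
      rw [h1]
      have h2 : closure ({f ⟨x, h⟩, 1} : Set (n ⧸ Z)) = zpowers (f ⟨x, h⟩) := by
        apply le_antisymm
        · rw [closure_le]
          rintro z (rfl | rfl)
          · exact mem_zpowers _
          · exact one_mem _
        · rw [zpowers_le]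
          exact subset_closure (by simp)
      rw [h2]
      exact solvable_zpowers _
  have h3 : closure ({x, y} : Set G) = (closure ({(⟨x, h⟩ : n), ⟨y, hy⟩} : Set n)).map n.subtype := by
    rw [closure_pair_map]
    rfl
  rw [h3]
  exact solvable_map _ hK

/-- Two elements `x`, `y` such that `x`, `y`, `x y` are nontrivial of pairwise coprime orders do not generate a
solvable group. -/
theorem not_solvable_pair {G : Type*} [Group G] {x y : G} (hx : x ≠ 1) (hy : y ≠ 1)
    (hxy : x * y ≠ 1) {a b c : ℕ} (ha : x ^ a = 1) (hb : y ^ b = 1) (hc : (x * y) ^ c = 1)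
    (hab : a.Coprime b) (hbc : b.Coprime c) (hac : a.Coprime c) :
    ¬ Group.IsSolvable ↥(closure ({x, y} : Set G)) := by
  intro hs
  have hxm : x ∈ closure ({x, y} : Set G) := subset_closure (by simp)
  have hym : y ∈ closure ({x, y} : Set G) := subset_closure (by simp)
  have h1 : orderOf (⟨x, hxm⟩ : closure ({x, y} : Set G)) ∣ a := by
    rw [orderOf_mk]; exact orderOf_dvd_of_pow_eq_one ha
  have h2 : orderOf (⟨y, hym⟩ : closure ({x, y} : Set G)) ∣ b := by
    rw [orderOf_mk]; exact orderOf_dvd_of_pow_eq_one hb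
  have h3 : orderOf ((⟨x, hxm⟩ * ⟨y, hym⟩ : closure ({x, y} : Set G)))⁻¹ ∣ c := by
    rw [orderOf_inv]
    have : (⟨x, hxm⟩ * ⟨y, hym⟩ : closure ({x, y} : Set G)) = ⟨x * y, mul_mem hxm hym⟩ := rfl
    rw [this, orderOf_mk]; exact orderOf_dvd_of_pow_eq_one hc
  refine not_hasTriple_of_isSolvable hs ⟨⟨x, hxm⟩, ⟨y, hym⟩, (⟨x, hxm⟩ * ⟨y, hym⟩)⁻¹, ?_, ?_, ?_,
    ?_, ?_, ?_, ?_⟩
  · intro h; exact hx (congrArg (fun z : closure ({x, y} : Set G) => (z : G)) h)
  · intro h; exact hy (congrArg (fun z : closure ({x, y} : Set G) => (z : G)) h)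
  · intro h
    rw [inv_eq_one] at h
    exact hxy (congrArg (fun z : closure ({x, y} : Set G) => (z : G)) h)
  · exact Nat.Coprime.coprime_dvd_left h1 (Nat.Coprime.coprime_dvd_right h2 hab)
  · exact Nat.Coprime.coprime_dvd_left h2 (Nat.Coprime.coprime_dvd_right h3 hbc)
  · exact Nat.Coprime.coprime_dvd_left h1 (Nat.Coprime.coprime_dvd_right h3 hac)
  · exact mul_inv_cancel _

section L33

open Matrix

/-- the conjugating element -/
def g33 : SpecialLinearGroup (Fin 3) (ZMod 3) :=
  ⟨!![1, 0, 0; 0, 1, 0; 2, 0, 1], by decide⟩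

/-- its inverse -/
def g33' : SpecialLinearGroup (Fin 3) (ZMod 3) :=
  ⟨!![1, 0, 0; 0, 1, 0; 1, 0, 1], by decide⟩

theorem g33_mul : g33 * g33' = 1 := by decide

theorem rel33 : PSLThreeTriple.A * (g33 * PSLThreeTriple.B * g33') * PSLThreeTriple.A *
    (g33 * PSLThreeTriple.B * g33') = 1 := by decide +kernel

/-- `PSL₃(3)` does not satisfy the criterion. -/
theorem not_crit_psl_three {F : Type*} [Field F] [Fintype F] (hF : Fintype.card F = 3) :
    ¬ Crit (Matrix.ProjectiveSpecialLinearGroup (Fin 3) F) := by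
  classical
  intro hc
  have : Fact (Nat.Prime 3) := ⟨Nat.prime_three⟩
  have hch : CharP F 3 := charP_of_card_eq_prime hF
  set f : ZMod 3 →+* F := ZMod.castHom (dvd_refl 3) F with hf
  set φ : SpecialLinearGroup (Fin 3) (ZMod 3) →* SpecialLinearGroup (Fin 3) F :=
    Matrix.SpecialLinearGroup.map f with hφ
  have hval : ∀ (M : SpecialLinearGroup (Fin 3) (ZMod 3)) (i j : Fin 3), (φ M).1 i j = f (M.1 i j) := by
    intro M i j
    rfl
  set π : SpecialLinearGroup (Fin 3) F →* Matrix.ProjectiveSpecialLinearGroup (Fin 3) F :=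
    QuotientGroup.mk' (Subgroup.center (SpecialLinearGroup (Fin 3) F)) with hπ
  set ψ := π.comp φ with hψ
  have hψ1 : ∀ M : SpecialLinearGroup (Fin 3) (ZMod 3), (∃ i j : Fin 3, i ≠ j ∧ M.1 i j = 1) →
      ψ M ≠ 1 := by
    rintro M ⟨i, j, hij, h1⟩ h
    have h2 : φ M ∈ Subgroup.center (SpecialLinearGroup (Fin 3) F) :=
      (QuotientGroup.eq_one_iff _).mp h
    have h3 := PSLThreeTriple.apply_eq_zero_of_mem_center h2 hij
    rw [hval, h1, map_one] at h3
    exact one_ne_zero h3
  set x := ψ PSLThreeTriple.A with hx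
  set b := ψ PSLThreeTriple.B with hb
  set g := ψ g33 with hg
  have hg' : g⁻¹ = ψ g33' := by
    rw [inv_eq_iff_mul_eq_one, hg, ← map_mul, g33_mul, map_one]
  have hx2 : x ^ 2 = 1 := by rw [hx, ← map_pow, PSLThreeTriple.A_sq, map_one]
  have hb3 : b ^ 3 = 1 := by rw [hb, ← map_pow, PSLThreeTriple.B_cube, map_one]
  have hxb : (x * b) ^ 13 = 1 := by rw [hx, hb, ← map_mul, ← map_pow, PSLThreeTriple.AB_pow, map_one]
  have hx1 : x ≠ 1 := hψ1 _ ⟨0, 2, by decide, PSLThreeTriple.A_apply⟩
  have hb1 : b ≠ 1 := hψ1 _ ⟨0, 1, by decide, PSLThreeTriple.B_apply⟩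
  have hxb1 : x * b ≠ 1 := by
    rw [hx, hb, ← map_mul]
    exact hψ1 _ ⟨0, 1, by decide, PSLThreeTriple.AB_apply⟩
  set y := g * b * g⁻¹ with hy
  have hrel : x * y * x * y = 1 := by
    rw [hy, hg', hx, hg, hb, ← map_mul, ← map_mul, ← map_mul, ← map_mul, ← map_mul, rel33, map_one]
  have hxx : x⁻¹ = x := by
    rw [inv_eq_iff_mul_eq_one, ← pow_two, hx2]
  have hconj : x * y * x⁻¹ = y⁻¹ := by
    rw [hxx]
    exact eq_inv_of_mul_eq_one_left hrel
  have hnorm : x ∈ normalizer (zpowers y : Set _) := by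
    rw [mem_normalizer_iff]
    intro h
    rw [← MulAut.conj_apply]
    have h1 : (zpowers y).map (MulAut.conj x).toMonoidHom = zpowers y := by
      rw [MonoidHom.map_zpowers]
      have : (MulAut.conj x).toMonoidHom y = y⁻¹ := by
        simp [hconj]
      rw [this, zpowers_inv]
    constructor
    · intro hh
      rw [← h1]
      exact ⟨h, hh, rfl⟩
    · intro hh
      rw [← h1] at hh
      obtain ⟨k, hk, hk'⟩ := hh
      have : k = h := (MulAut.conj x).injective hk'
      rw [← this]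
      exact hk
  have hsol := solvable_pair hnorm
  have hy3 : y ^ 3 = 1 := by rw [hy, conj_pow, hb3]; group
  have hpow : ∀ (z : Matrix.ProjectiveSpecialLinearGroup (Fin 3) F) (p : ℕ), p.Prime → z ^ p = 1 →
      ∃ k, orderOf z = p ^ k := by
    intro z p hp hz
    obtain ⟨k, -, hk⟩ := (Nat.dvd_prime_pow hp).mp
      (show orderOf z ∣ p ^ 1 by rw [pow_one]; exact orderOf_dvd_of_pow_eq_one hz)
    exact ⟨k, hk⟩
  have h1 := hc 2 3 Nat.prime_two Nat.prime_three (by norm_num) x y (hpow x 2 Nat.prime_two hx2)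
    (hpow y 3 Nat.prime_three hy3) hsol g⁻¹
  have h2 : g⁻¹ * y * g⁻¹⁻¹ = b := by rw [hy]; group
  rw [h2] at h1
  exact not_solvable_pair hx1 hb1 hxb1 hx2 hb3 hxb (by norm_num) (by norm_num) (by norm_num) h1

end L33

end Cfsg.Agent.H983.PairTriple
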