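import Cfsg.Agent.H983.GThree
import Cfsg.Agent.H290.ElEng
import Cfsg.Agent.H499.TTSmall
import Cfsg.Agent.H934.OutB

/-!
# `G₂(3)` and its almost simple subgroups with socle `PSL₂(13)` (helper983)

* `der_psl` : `T = G₂(3)`, `S ≅ PSL₂(13)` normal in `R ≤ T` with trivial centralizer: `Der T R`.
-/

set_option autoImplicit false

namespace Cfsg.Agent.H983.GThree

open Cfsg.Agent.H396

theorem nine_aut {S : Type} [Group S] [Finite S] [IsSimpleGroup S] (hna : ¬ IsMulCommutative S)
    (hS : OrdDiv.Real (.psl 2 13) S) : ¬ 9 ∣ Nat.card (MulAut S) := by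
  obtain ⟨F, _, _, hF, ⟨e⟩⟩ := hS
  have h1 := H499.TT.card_out_psl2 (F := F) (p := 13) (f := 1) (by norm_num) le_rfl (by rw [hF, pow_one]) (by norm_num)
  have h2 := H499.TT.card_psl2 (F := F) hF
  have hs : IsSimpleGroup (Matrix.ProjectiveSpecialLinearGroup (Fin 2) F) := e.symm.isSimpleGroup
  have hna' : ¬ IsMulCommutative (Matrix.ProjectiveSpecialLinearGroup (Fin 2) F) := by
    intro hc
    apply hna
    refine ⟨⟨fun a b => e.injective ?_⟩⟩
    rw [map_mul, map_mul]
    exact hc.is_comm.comm _ _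
  have hfin : Finite (Matrix.ProjectiveSpecialLinearGroup (Fin 2) F) := Finite.of_equiv _ e.toEquiv
  have h3 := H934.OutB.card_out_mul (Matrix.ProjectiveSpecialLinearGroup (Fin 2) F) hna'
  rw [Nat.card_congr (MulAut.congr e).toEquiv, ← h3, h1, h2]
  decide

/-- **The pair `G₂(3) > PSL₂(13)`.** -/
theorem der_psl {T : Type} [Group T] [Finite T] (hT : OrdDiv.Real (.g2 3) T) {R : Subgroup T} (S : Subgroup R)
    [S.Normal] [IsSimpleGroup S] (hna : ¬ IsMulCommutative S) (hC : Subgroup.centralizer (S : Set R) = ⊥)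
    (hS : OrdDiv.Real (.psl 2 13) S) : Der T R :=
  der_named hT fun h9 => nine_aut hna hS (h9.trans (H290.ElEng.card_dvd_aut hC))

end Cfsg.Agent.H983.GThree
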