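import Cfsg.Agent.H983.TwoMT
import Cfsg.Agent.TypeM.FactsLy

/-!
# S4094, S3842, S4095 at the prime 2: `Ly` (helper983)
-/

set_option autoImplicit false

namespace Cfsg.Agent.H983.TwoLy

open Subgroup Cfsg Cfsg.Agent.H516.Zip

universe u

/-- **The row `Ly` at the prime 2.** -/
theorem row {G : Type u} [Group G] [Finite G] {N : Subgroup G} {x : G} (h : Wk 2 N x) (hx2 : 2 ∣ orderOf x)
    (hN : Spor.IsoLy N) : False := by
  obtain ⟨-, -, hcard, ⟨L⟩⟩ := Cfsg.Agent.TypeM.FactsLy.facts hN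
  exact TwoMT.false_of_mt (Or.inr rfl) h hx2 L (Or.inr ⟨rfl, hcard⟩)

end Cfsg.Agent.H983.TwoLy
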