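import Cfsg.Agent.H983.GThreeChk
import Cfsg.Agent.H396.Der
import Cfsg.Agent.OrdDiv.Main

/-!
# `G₂(3)`: subgroups of order not divisible by nine (helper983)

Not all elements of order three of `T = G₂(3)` are conjugate in `Aut T`: some commute with an element of order four,
others do not. In a subgroup of order not divisible by nine the subgroups of order three are conjugate.

* `der_of_not_nine` : `Der T R` if `9 ∤ |R|`.
-/

set_option autoImplicit false

namespace Cfsg.Agent.H983.GThree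

open Cfsg.Lie Cfsg.Agent.H396
open Cfsg.Agent.GTwoThree.Model
open Cfsg.Agent.OddHalf.Small.G23Data Cfsg.Agent.OddHalf.Small.G23Check Cfsg.Agent.OddHalf.Small.G23
open Cfsg.Agent.H983.GThreeChk

section abs

/-- If an involution `z` is such that `u² ∈ ⟨z⟩`, `u z = z u` implies `u ∈ ⟨z⟩`, then `⟨z⟩` is a Sylow 2-subgroup. -/
theorem no_four {C : Type*} [Group C] [Finite C] {z : C} (hz : z * z = 1)
    (h : ∀ u : C, u * z = z * u → (u * u = 1 ∨ u * u = z) → u = 1 ∨ u = z) (v : C)
    (hv : v * (v * (v * v)) = 1) : v * v = 1 := by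
  have i2 : Fact (Nat.Prime 2) := ⟨Nat.prime_two⟩
  have hmem : ∀ w, w ∈ Subgroup.zpowers z ↔ w = 1 ∨ w = z := by
    intro w
    constructor
    · rintro ⟨i, rfl⟩
      rcases Int.even_or_odd i with ⟨j, hj⟩ | ⟨j, hj⟩
      · left
        show z ^ i = 1
        rw [hj, zpow_add, ← (Commute.refl z).mul_zpow, hz, one_zpow]
      · right
        show z ^ i = z
        rw [hj, zpow_add, two_mul, zpow_add, ← (Commute.refl z).mul_zpow, hz, one_zpow, one_mul, zpow_one]
    · rintro (rfl | rfl)
      · exact one_mem _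
      · exact Subgroup.mem_zpowers _
  have hP : IsPGroup 2 (Subgroup.zpowers z) := by
    rintro ⟨w, hw⟩
    refine ⟨1, Subtype.ext ?_⟩
    show w ^ 2 ^ 1 = 1
    rw [pow_one, pow_two]
    rcases (hmem w).1 hw with rfl | rfl
    · rw [one_mul]
    · exact hz
  obtain ⟨S, hS⟩ := hP.exists_le_sylow
  have hSz : (S : Subgroup C) = Subgroup.zpowers z := by
    by_contra hne
    have hnil : Group.IsNilpotent (S : Subgroup C) := S.isPGroup'.isNilpotent
    have hlt : (Subgroup.zpowers z).subgroupOf (S : Subgroup C) < ⊤ := by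
      rw [lt_top_iff_ne_top]
      intro h1
      exact hne (le_antisymm (Subgroup.subgroupOf_eq_top.1 h1) hS)
    obtain ⟨n, hn1, hn2⟩ := SetLike.exists_of_lt (Group.normalizerCondition_of_isNilpotent _ hlt)
    have hzS : z ∈ (S : Subgroup C) := hS (Subgroup.mem_zpowers z)
    have hn3 : (n : C) * z = z * n := by
      have h1 := (Subgroup.mem_normalizer_iff.1 hn1 ⟨z, hzS⟩).1 (Subgroup.mem_subgroupOf.2 (Subgroup.mem_zpowers z))
      have h3 : (n : C) * z * (n : C)⁻¹ ∈ Subgroup.zpowers z := Subgroup.mem_subgroupOf.1 h1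
      rcases (hmem _).1 h3 with h4 | h4
      · have h5 : z = 1 := by
          have : z = (n : C)⁻¹ * ((n : C) * z * (n : C)⁻¹) * n := by group
          rw [this, h4]; group
        rw [h5, mul_one, one_mul]
      · rw [mul_inv_eq_iff_eq_mul] at h4
        exact h4
    have hn4 : (n : C) ∉ Subgroup.zpowers z := fun h1 => hn2 (Subgroup.mem_subgroupOf.2 h1)
    -- the last power outside `⟨z⟩`
    obtain ⟨k, hk⟩ := S.isPGroup' n
    have hk' : (n : C) ^ 2 ^ k = 1 := congrArg Subtype.val hk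
    have key : ∀ k : ℕ, ∀ w : C, w * z = z * w → w ∉ Subgroup.zpowers z → w ^ 2 ^ k = 1 → False := by
      intro k
      induction k with
      | zero =>
        intro w _ h2 h3
        rw [pow_zero, pow_one] at h3
        exact h2 ((hmem w).2 (Or.inl h3))
      | succ k ih =>
        intro w h1 h2 h3
        by_cases h4 : w * w ∈ Subgroup.zpowers z
        · exact h2 ((hmem w).2 (h w h1 ((hmem _).1 h4)))
        · refine ih (w * w) ?_ h4 ?_
          · rw [mul_assoc, h1, ← mul_assoc, h1, mul_assoc]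
          · rw [← pow_two, ← pow_mul, ← pow_succ']
            exact h3
    exact key k n hn3 hn4 hk'
  -- `v` lies in a conjugate of `S`
  have hv4 : IsPGroup 2 (Subgroup.zpowers v) := by
    rintro ⟨w, i, rfl⟩
    refine ⟨2, Subtype.ext ?_⟩
    show (v ^ i) ^ 2 ^ 2 = 1
    rw [← zpow_natCast, ← zpow_mul, mul_comm, zpow_mul, zpow_natCast]
    have h1 : v ^ 2 ^ 2 = 1 := by
      rw [show (2 : ℕ) ^ 2 = 4 by norm_num]
      calc v ^ 4 = v * (v * (v * v)) := by simp only [pow_succ, pow_zero, one_mul, mul_assoc]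
        _ = 1 := hv
    rw [h1, one_zpow]
  obtain ⟨S', hS'⟩ := hv4.exists_le_sylow
  obtain ⟨g, hg⟩ := MulAction.exists_smul_eq C S S'
  have hvS : v ∈ (S' : Subgroup C) := hS' (Subgroup.mem_zpowers v)
  rw [← hg] at hvS
  obtain ⟨w, hw, hwv⟩ := hvS
  have hwv' : g * w * g⁻¹ = v := hwv
  rw [hSz] at hw
  have hww : w * w = 1 := by
    rcases (hmem w).1 hw with rfl | rfl
    · rw [one_mul]
    · exact hz
  rw [← hwv']
  calc g * w * g⁻¹ * (g * w * g⁻¹) = g * (w * w) * g⁻¹ := by group
    _ = 1 := by rw [hww]; group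

/-- `y` commutes with an element of order four -/
def Four {G : Type*} [Group G] (y : G) : Prop := ∃ v : G, v * y = y * v ∧ v * (v * (v * v)) = 1 ∧ v * v ≠ 1

theorem Four.map {G : Type*} [Group G] {y : G} (h : Four y) (φ : G ≃* G) : Four (φ y) := by
  obtain ⟨v, h1, h2, h3⟩ := h
  refine ⟨φ v, by rw [← map_mul, h1, map_mul], by rw [← map_mul, ← map_mul, ← map_mul, h2, map_one], ?_⟩
  rw [← map_mul]
  exact fun h4 => h3 ((map_eq_one_iff φ φ.injective).1 h4)

theorem Four.conj {G : Type*} [Group G] {y : G} (h : Four y) (g : G) : Four (g * y * g⁻¹) :=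
  h.map (MulAut.conj g)

theorem Four.inv {G : Type*} [Group G] {y : G} (h : Four y) : Four y⁻¹ := by
  obtain ⟨v, h1, h2, h3⟩ := h
  exact ⟨v, (Commute.inv_right (show Commute v y from h1)).eq, h2, h3⟩

theorem not_four_of {G : Type*} [Group G] [Finite G] {z b : G} (hbz : b * z = z * b) (hzz : z * z = 1)
    (h : ∀ u, u * z = z * u → u * b = b * u → (u * u = 1 ∨ u * u = z) → u = 1 ∨ u = z) : ¬ Four b := by
  rintro ⟨v, hv1, hv2, hv3⟩
  apply hv3
  have hzC : z ∈ Subgroup.centralizer ({b} : Set G) := Subgroup.mem_centralizer_singleton_iff.2 hbz.symm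
  have hvC : v ∈ Subgroup.centralizer ({b} : Set G) := Subgroup.mem_centralizer_singleton_iff.2 hv1
  have key := no_four (C := Subgroup.centralizer ({b} : Set G)) (z := ⟨z, hzC⟩) (Subtype.ext hzz) (by
    rintro ⟨u, hu⟩ h1 h2
    have h3 := h u (congrArg Subtype.val h1) (Subgroup.mem_centralizer_singleton_iff.1 hu)
      (h2.imp (congrArg Subtype.val) (congrArg Subtype.val))
    exact h3.imp (fun h => Subtype.ext h) (fun h => Subtype.ext h)) ⟨v, hvC⟩ (Subtype.ext hv2)
  exact congrArg Subtype.val key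

theorem der_congr {G T : Type*} [Group G] [Group T] (f : G ≃* T)
    (h : ∀ R : Subgroup G, ¬ 9 ∣ Nat.card R → Der G R) {R : Subgroup T} (h9 : ¬ 9 ∣ Nat.card R) : Der T R := by
  refine Der.congr f (h _ ?_)
  have h1 : Nat.card (R.comap f.toMonoidHom) = Nat.card R :=
    Nat.card_congr (MulEquiv.ofBijective (f.toMonoidHom.subgroupComap R)
      ⟨fun a b h => Subtype.ext (f.injective (congrArg Subtype.val h)),
        MonoidHom.subgroupComap_surjective_of_surjective _ _ f.surjective⟩).toEquiv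
  rwa [h1]

/-- a group with two kinds of elements of order three and a subgroup of order not divisible by nine -/
theorem der_of {G : Type*} [Group G] [Finite G] {a b : G} (ha : orderOf a = 3) (hb : orderOf b = 3) (h4a : Four a)
    (h4b : ¬ Four b) {R : Subgroup G} (h9 : ¬ 9 ∣ Nat.card R) : Der G R := by
  have i3 : Fact (Nat.Prime 3) := ⟨Nat.prime_three⟩
  by_contra hcon
  have key : ∀ x : G, orderOf x = 3 → ∃ φ : G ≃* G, φ x ∈ R := by
    intro x hx
    by_contra h
    push Not at h
    exact hcon ⟨x, by rw [hx]; exact Nat.prime_three, h⟩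
  obtain ⟨φ, hφ⟩ := key a ha
  obtain ⟨ψ, hψ⟩ := key b hb
  set A : Subgroup R := Subgroup.zpowers ⟨φ a, hφ⟩ with hA
  set B : Subgroup R := Subgroup.zpowers ⟨ψ b, hψ⟩ with hB
  have hcA : Nat.card A = 3 := by
    rw [hA, Nat.card_zpowers, Subgroup.orderOf_mk]
    exact (orderOf_injective φ.toMonoidHom φ.injective a).trans ha
  have hcB : Nat.card B = 3 := by
    rw [hB, Nat.card_zpowers, Subgroup.orderOf_mk]
    exact (orderOf_injective ψ.toMonoidHom ψ.injective b).trans hb
  have hsyl : ∀ X : Subgroup R, Nat.card X = 3 → ∃ P : Sylow 3 R, (P : Subgroup R) = X := by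
    intro X hX
    have hXp : IsPGroup 3 X := IsPGroup.of_card (n := 1) (by rw [hX, pow_one])
    obtain ⟨P, hP⟩ := hXp.exists_le_sylow
    refine ⟨P, ?_⟩
    symm
    apply Subgroup.eq_of_le_of_card_ge hP
    obtain ⟨k, hk⟩ := IsPGroup.iff_card.1 P.isPGroup'
    rw [hk, hX]
    have hk2 : k < 2 := by
      by_contra hk2
      push Not at hk2
      apply h9
      have h1 : 3 ^ 2 ∣ 3 ^ k := pow_dvd_pow 3 hk2
      rw [← hk] at h1
      exact h1.trans (Subgroup.card_subgroup_dvd_card _)
    interval_cases k <;> norm_num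
  obtain ⟨P, hP⟩ := hsyl A hcA
  obtain ⟨Q, hQ⟩ := hsyl B hcB
  obtain ⟨g, hg⟩ := MulAction.exists_smul_eq R P Q
  have h1 : g * ⟨φ a, hφ⟩ * g⁻¹ ∈ (Q : Subgroup R) := by
    rw [← hg]
    refine ⟨⟨φ a, hφ⟩, ?_, rfl⟩
    show (⟨φ a, hφ⟩ : R) ∈ (P : Subgroup R)
    rw [hP]
    exact Subgroup.mem_zpowers _
  rw [hQ] at h1
  obtain ⟨i, hi⟩ := h1
  have hi' : (ψ b) ^ i = (g : G) * φ a * (g : G)⁻¹ := congrArg Subtype.val hi
  have hb3 : (ψ b) ^ (3 : ℤ) = 1 := by
    have h3 : orderOf (ψ b) = 3 := (orderOf_injective ψ.toMonoidHom ψ.injective b).trans hb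
    have := pow_orderOf_eq_one (ψ b)
    rw [h3] at this
    exact_mod_cast this
  have h4 : Four ((g : G) * φ a * (g : G)⁻¹) := (h4a.map φ).conj g
  have hb4 : ¬ Four (ψ b) := by
    intro h
    apply h4b
    have := h.map ψ.symm
    rwa [ψ.symm_apply_apply] at this
  have hi3 : (ψ b) ^ i = (ψ b) ^ (i % 3) := by
    conv_lhs => rw [← Int.emod_add_mul_ediv i 3, zpow_add, zpow_mul, hb3, one_zpow, mul_one]
  rw [hi3] at hi'
  have h5 : i % 3 = 0 ∨ i % 3 = 1 ∨ i % 3 = 2 := by omega
  rcases h5 with h5 | h5 | h5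
  · rw [h5, zpow_zero] at hi'
    have h6 : φ a = 1 := by
      have : φ a = (g : G)⁻¹ * ((g : G) * φ a * (g : G)⁻¹) * g := by group
      rw [this, ← hi']; group
    have h7 : a = 1 := (map_eq_one_iff φ φ.injective).1 h6
    rw [h7, orderOf_one] at ha
    exact absurd ha (by norm_num)
  · rw [h5, zpow_one] at hi'
    exact hb4 (hi' ▸ h4)
  · rw [h5] at hi'
    have h6 : (ψ b) ^ (2 : ℤ) = (ψ b)⁻¹ := by
      rw [eq_inv_iff_mul_eq_one]
      rw [← hb3]
      group
    rw [h6] at hi'
    apply hb4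
    have h7 := (hi' ▸ h4 : Four (ψ b)⁻¹).inv
    rwa [inv_inv] at h7

end abs

/-! ### the model -/

theorem exists_word {g : ↥Gp} (hg : g * z = z * g) : ∃ W : List ℕ, g = ev y W ∧ chk W = true := by
  obtain ⟨a, d, i, hi, a', d', -, -, h, -⟩ := cent hg
  refine ⟨cw5 i a.val d.val a'.val d'.val, ?_, ?_⟩
  · rw [h, cw5, ev_append, ev_append, ev_append, ev_append, mul_assoc, ev_append, ev_append]
  · have h1 := List.all_eq_true.1 check_C i hi
    unfold chkI at h1
    have hm : ∀ t : Fin 3, t.val ∈ ([0, 1, 2] : List ℕ) := by decide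
    exact List.all_eq_true.1 (List.all_eq_true.1 (List.all_eq_true.1 (List.all_eq_true.1 h1 a.val (hm a))
      d.val (hm d)) a'.val (hm a')) d'.val (hm d')

theorem orderOf_three {G : Type*} [Group G] {x : G} (h : x * (x * x) = 1) (h1 : x ≠ 1) : orderOf x = 3 := by
  have i3 : Fact (Nat.Prime 3) := ⟨Nat.prime_three⟩
  refine orderOf_eq_prime ?_ h1
  calc x ^ 3 = x * (x * x) := by simp only [pow_succ, pow_zero, one_mul, mul_assoc]
    _ = 1 := h

theorem order_a : orderOf (ev y w1) = 3 := by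
  have e1 := eq_of_eqc check_a1
  rw [ev_append, ev_append] at e1
  exact orderOf_three e1 (ne_of_nec check_a2)

theorem four_a : Four (ev y w1) := by
  have e3 := eq_of_eqc check_a3
  rw [ev_append, ev_append] at e3
  have e4 := eq_of_eqc check_a4
  rw [ev_append, ev_append, ev_append] at e4
  have e5 := ne_of_nec check_a5
  rw [ev_append] at e5
  exact ⟨ev y w4, e3.symm, e4, e5⟩

theorem order_b : orderOf (ev y w2) = 3 := by
  have e1 := eq_of_eqc check_b1
  rw [ev_append, ev_append] at e1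
  exact orderOf_three e1 (ne_of_nec check_b2)

theorem comm_b : ev y w2 * z = z * ev y w2 := by
  have h := eq_of_eqc check_b3
  rwa [ev_append, ev_append] at h

theorem zz : z * z = 1 := by
  have h := eq_of_eqc check_b4
  rwa [ev_append] at h

theorem not_four : ¬ Four (ev y w2) := by
  refine not_four_of comm_b zz ?_
  intro u h1 hu h2
  obtain ⟨W, rfl, hW⟩ := exists_word h1
  unfold chk at hW
  simp only [Bool.or_eq_true, Bool.and_eq_true] at hW
  rcases hW with hW | ⟨hW, hW'⟩ | hW | hW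
  · exfalso
    apply ne_of_nec hW
    rw [ev_append, ev_append, hu]
  · exfalso
    have e1 := ne_of_nec hW
    have e2 := ne_of_nec hW'
    rw [ev_append] at e1 e2
    rcases h2 with h | h
    · exact e1 h
    · exact e2 h
  · exact Or.inl (eq_of_eqc hW)
  · exact Or.inr (eq_of_eqc hW)

theorem der_model {R : Subgroup ↥Gp} (h9 : ¬ 9 ∣ Nat.card R) : Der ↥Gp R :=
  der_of order_a order_b four_a not_four h9

/-- **Subgroups of `G₂(3)` of order not divisible by nine.** -/
theorem der_of_not_nine {T : Type*} [Group T] {F : Type} [Field F] [Fintype F] (hF : Fintype.card F = 3)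
    (e : T ≃* ↥(chevG2.group F)) {R : Subgroup T} (h9 : ¬ 9 ∣ Nat.card R) : Der T R := by
  have h3 : Fintype.card (ZMod 3) = Fintype.card F := by rw [hF]; rfl
  let φ : ZMod 3 ≃+* F := FiniteField.ringEquivOfCardEq h3
  exact der_congr ((ChevalleyStructure.FieldIso.groupEquiv chevG2 φ).trans e.symm) (fun _ h => der_model h) h9

/-- the named version -/
theorem der_named {T : Type} [Group T] [Finite T] (hT : OrdDiv.Real (.g2 3) T) {R : Subgroup T}
    (h9 : ¬ 9 ∣ Nat.card R) : Der T R := by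
  obtain ⟨F, _, _, hF, ⟨e⟩⟩ := hT
  exact der_of_not_nine hF e h9

end Cfsg.Agent.H983.GThree
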