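import Cfsg.Agent.Omega.ML.InvGTwoThree

/-!
# `G₂(3)`: the elements `x₆(1)` and `x₆(1) x₉(1)` of order three (helper983)

* `check_a*` : `x₆(1)` commutes with an element of order 4 (`n₉`);
* `check_C` : an element `u` which commutes with the involution `z` and with `x₆(1) x₉(1)` and satisfies `u² ∈ ⟨z⟩` lies
  in `⟨z⟩`.
-/

set_option autoImplicit false
set_option Elab.async false
set_option maxRecDepth 100000

namespace Cfsg.Agent.H983.GThreeChk

open Cfsg.Lie
open Cfsg.Agent.GTwoThree.Model
open Cfsg.Agent.OddHalf.Small.G23Data Cfsg.Agent.OddHalf.Small.G23Check Cfsg.Agent.OddHalf.Small.G23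

/-- `x₆(1)` -/
def w1 : List ℕ := [12]
/-- `x₆(1) x₉(1)` -/
def w2 : List ℕ := [12, 18]
/-- `n₉` -/
def w4 : List ℕ := [18, 5, 18]

/-- a word of `C(z)` -/
def cw5 (i a d a' d' : ℕ) : List ℕ := (wx 6 a ++ wx 9 d) ++ (NL.getD i [] ++ (wx 6 a' ++ wx 9 d'))

/-- the check: `W` does not commute with `b`, or `W² ∉ ⟨z⟩`, or `W ∈ ⟨z⟩` -/
noncomputable def chk (W : List ℕ) : Bool :=
  nec (W ++ w2) (w2 ++ W) || ((nec (W ++ W) [] && nec (W ++ W) wz) || (eqc W [] || eqc W wz))

noncomputable def chkI (i : ℕ) : Bool :=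
  [0, 1, 2].all fun a => [0, 1, 2].all fun d => [0, 1, 2].all fun a' => [0, 1, 2].all fun d' =>
    chk (cw5 i a d a' d')

theorem check_C : NZ.all chkI = true := by decide +kernel

theorem check_a1 : eqc (w1 ++ (w1 ++ w1)) [] = true := by decide +kernel

theorem check_a2 : nec w1 [] = true := by decide +kernel

theorem check_a3 : eqc (w1 ++ w4) (w4 ++ w1) = true := by decide +kernel

theorem check_a4 : eqc (w4 ++ (w4 ++ (w4 ++ w4))) [] = true := by decide +kernel

theorem check_a5 : nec (w4 ++ w4) [] = true := by decide +kernel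

theorem check_b1 : eqc (w2 ++ (w2 ++ w2)) [] = true := by decide +kernel

theorem check_b2 : nec w2 [] = true := by decide +kernel

theorem check_b3 : eqc (w2 ++ wz) (wz ++ w2) = true := by decide +kernel

theorem check_b4 : eqc (wz ++ wz) [] = true := by decide +kernel

end Cfsg.Agent.H983.GThreeChk
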