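import Mathlib
import Cfsg.Agent.H983.PairTriple
import Cfsg.Agent.S0810
import Cfsg.Agent.ClassicalGeometry.PSLTorus

/-!
# `PSL₂(q)`: elements with a unique maximal overgroup (for S3843)
-/

set_option autoImplicit false

namespace Cfsg.Agent.H983.PairPSL

open Cfsg Subgroup
open Cfsg.Agent.H983.PairCrit Cfsg.Agent.H983.PairTriple
open Cfsg.Agent.ClassicalGeometry.PSL2Basic Cfsg.Agent.ClassicalGeometry.PSL2Solvable
open Cfsg.Agent.ClassicalGeometry

/-! ### General facts -/

/-- An element of odd order of a dihedral group generates a normal subgroup. -/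
theorem dih_norm {n : ℕ} {x : DihedralGroup n} (hx : Odd (orderOf x)) (h : DihedralGroup n) :
    h * x * h⁻¹ ∈ zpowers x := by
  rcases x with i | i
  · rcases h with j | j
    · have : DihedralGroup.r j * DihedralGroup.r i * (DihedralGroup.r j)⁻¹ = DihedralGroup.r i := by
        simp
      rw [this]
      exact mem_zpowers _
    · have : DihedralGroup.sr j * DihedralGroup.r i * (DihedralGroup.sr j)⁻¹ =
          (DihedralGroup.r i)⁻¹ := by
        simp
      rw [this]
      exact inv_mem (mem_zpowers _)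
  · exfalso
    rw [DihedralGroup.orderOf_sr] at hx
    exact absurd hx (by decide)

/-- Transport of `h x h⁻¹ ∈ ⟨x⟩`. -/
theorem mem_of_equiv {G H : Type*} [Group G] [Group H] (f : G →* H) (hf : Function.Injective f)
    {x h : G} (hh : f h * f x * (f h)⁻¹ ∈ zpowers (f x)) : h * x * h⁻¹ ∈ zpowers x := by
  obtain ⟨k, hk⟩ := mem_zpowers_iff.mp hh
  refine mem_zpowers_iff.mpr ⟨k, hf ?_⟩
  rw [map_zpow, hk, map_mul, map_mul, map_inv]

theorem le_normalizer_zpowers {G : Type*} [Group G] [Finite G] {x : G} {H : Subgroup G}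
    (h : ∀ g ∈ H, g * x * g⁻¹ ∈ zpowers x) : H ≤ normalizer (zpowers x : Set G) := by
  intro g hg
  rw [mem_normalizer_iff]
  have h1 : ∀ g ∈ H, ∀ z ∈ zpowers x, g * z * g⁻¹ ∈ zpowers x := by
    rintro g hg z ⟨k, rfl⟩
    have : g * x ^ k * g⁻¹ = (g * x * g⁻¹) ^ k := by rw [conj_zpow]
    change g * x ^ k * g⁻¹ ∈ _
    rw [this]
    exact zpow_mem (h g hg) k
  intro z
  constructor
  · intro hz
    exact h1 g hg z hz
  · intro hz
    have := h1 g⁻¹ (inv_mem hg) _ hz
    have h2 : g⁻¹ * (g * z * g⁻¹) * g⁻¹⁻¹ = z := by group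
    rwa [h2] at this

/-- In a simple group, the normaliser of a commutative Sylow subgroup contains elements of other
prime orders. -/
theorem exists_normalizer {G : Type*} [Group G] [Finite G] [IsSimpleGroup G] {r : ℕ}
    [Fact r.Prime] (P : Sylow r G) (hP : ∀ a ∈ (P : Subgroup G), ∀ b ∈ (P : Subgroup G), a * b = b * a)
    (h1 : (P : Subgroup G) ≠ ⊥) (h2 : (P : Subgroup G) ≠ ⊤) :
    ∃ (s : ℕ) (y : G), s.Prime ∧ s ≠ r ∧ orderOf y = s ∧
      y ∈ normalizer ((P : Subgroup G) : Set G) := by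
  by_contra hcon
  push Not at hcon
  have hN : IsPGroup r (normalizer ((P : Subgroup G) : Set G)) := by
    rw [IsPGroup.iff_card]
    have h3 : ∀ d : ℕ, d.Prime → d ∣ Nat.card (normalizer ((P : Subgroup G) : Set G)) → d = r := by
      intro d hd hdvd
      by_contra hne
      have : Fact d.Prime := ⟨hd⟩
      obtain ⟨y, hy⟩ := exists_prime_orderOf_dvd_card' d hdvd
      exact hcon d (y : G) hd hne (by rw [orderOf_coe, hy]) y.2
    exact ⟨_, Nat.eq_prime_pow_of_unique_prime_dvd Nat.card_pos.ne' (fun {d} hd hdd => h3 d hd hdd)⟩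
  have hNP : normalizer ((P : Subgroup G) : Set G) = P := P.is_maximal' hN le_normalizer
  have hle : normalizer ((P : Subgroup G) : Set G) ≤ centralizer ((P : Subgroup G) : Set G) := by
    rw [hNP]
    intro a ha
    rw [mem_centralizer_iff]
    intro b hb
    exact hP b hb a ha
  have hc := MonoidHom.ker_transferSylow_isComplement' P hle
  rcases (inferInstance : ((MonoidHom.transferSylow P hle).ker).Normal).eq_bot_or_eq_top with h | h
  · rw [h] at hc
    exact h2 (isComplement'_bot_left.mp hc)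
  · rw [h] at hc
    exact h1 (isComplement'_top_left.mp hc)

/-! ### `PSL₂(q)` -/

section psl

variable {F : Type*} [Field F] [Fintype F]

/-- The prime divisors of the order of the Borel subgroup. -/
theorem dvd_of_mem_normalizer (p : ℕ) [Fact p.Prime] [CharP F p]
    (P : Sylow p (Matrix.ProjectiveSpecialLinearGroup (Fin 2) F))
    {z : Matrix.ProjectiveSpecialLinearGroup (Fin 2) F}
    (hz : z ∈ normalizer ((P : Subgroup (Matrix.ProjectiveSpecialLinearGroup (Fin 2) F)) :
      Set (Matrix.ProjectiveSpecialLinearGroup (Fin 2) F))) :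
    ∃ k, orderOf z ∣ (Fintype.card F - 1) * p ^ k := by
  obtain ⟨g, hg⟩ := exists_le_map_borel p P
  obtain ⟨w, ⟨c, hc, rfl⟩, rfl⟩ := hg hz
  have h0 : ∀ n : ℕ, ((c ^ n : Matrix.SpecialLinearGroup (Fin 2) F) : Matrix (Fin 2) (Fin 2) F) 1 0 = 0 ∧
      ((c ^ n : Matrix.SpecialLinearGroup (Fin 2) F) : Matrix (Fin 2) (Fin 2) F) 0 0 = c 0 0 ^ n ∧
      ((c ^ n : Matrix.SpecialLinearGroup (Fin 2) F) : Matrix (Fin 2) (Fin 2) F) 1 1 = c 1 1 ^ n := by
    intro n
    have hc0 : (c : Matrix (Fin 2) (Fin 2) F) 1 0 = 0 := mem_borel_iff.mp hc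
    induction n with
    | zero => simp
    | succ n ih =>
      rw [pow_succ, Matrix.SpecialLinearGroup.coe_mul, Matrix.mul_apply, Matrix.mul_apply,
        Matrix.mul_apply, Fin.sum_univ_two, Fin.sum_univ_two, Fin.sum_univ_two, ih.1, ih.2.1, ih.2.2,
        hc0]
      refine ⟨by ring, by ring, by ring⟩
  have hdet : c 0 0 * c 1 1 = 1 := by
    have h1 := Matrix.det_fin_two (c : Matrix (Fin 2) (Fin 2) F)
    rw [Matrix.SpecialLinearGroup.det_coe] at h1
    have hc0 : (c : Matrix (Fin 2) (Fin 2) F) 1 0 = 0 := mem_borel_iff.mp hc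
    rw [hc0, mul_zero, sub_zero] at h1
    exact h1.symm
  have h00 : c 0 0 ≠ 0 := left_ne_zero_of_mul_eq_one hdet
  have h11 : c 1 1 ≠ 0 := right_ne_zero_of_mul_eq_one hdet
  have hu : c ^ (Fintype.card F - 1) ∈ Cfsg.Agent.LieClassical.SLTwoUnipotent.upperUnipSL F := by
    rw [Cfsg.Agent.LieClassical.SLTwoUnipotent.mem_upperUnipSL_iff]
    obtain ⟨ha, hb, hc'⟩ := h0 (Fintype.card F - 1)
    refine ⟨?_, ha, ?_⟩
    · exact hb.trans (FiniteField.pow_card_sub_one_eq_one _ h00)
    · exact hc'.trans (FiniteField.pow_card_sub_one_eq_one _ h11)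
  obtain ⟨k, hk⟩ := (Cfsg.Agent.LieClassical.SLTwoUnipotent.upperUnipSylowSL F p).isPGroup'
    ⟨c ^ (Fintype.card F - 1), hu⟩
  refine ⟨k, ?_⟩
  have h2 : c ^ ((Fintype.card F - 1) * p ^ k) = 1 := by
    rw [pow_mul]
    exact congrArg Subtype.val hk
  rw [orderOf_dvd_iff_pow_eq_one, ← map_pow, ← map_pow, h2, map_one, map_one]

/-- `|P| = q`. -/
theorem card_sylow_prime (p : ℕ) [Fact p.Prime] [CharP F p] (hq : Fintype.card F = p)
    (P : Sylow p (Matrix.ProjectiveSpecialLinearGroup (Fin 2) F)) :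
    Nat.card (P : Subgroup (Matrix.ProjectiveSpecialLinearGroup (Fin 2) F)) = p := by
  have hp : p.Prime := Fact.out
  have h1 := card_PSL2_gcd (F := F)
  rw [hq] at h1
  have hpos : 0 < p ^ 2 - 1 := by
    have : 2 ^ 2 ≤ p ^ 2 := Nat.pow_le_pow_left hp.two_le 2
    omega
  have hcop : ¬ p ∣ p ^ 2 - 1 := by
    intro h
    have h2 : p ∣ p ^ 2 := Dvd.intro_left (p ^ 1) (by ring)
    have h3 : p ∣ 1 := by
      have := (Nat.dvd_sub h2 h)
      rwa [show p ^ 2 - (p ^ 2 - 1) = 1 by omega] at this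
    exact hp.one_lt.ne' (Nat.dvd_one.mp h3)
  have hdvd : p ∣ Nat.card (Matrix.ProjectiveSpecialLinearGroup (Fin 2) F) := by
    have h2 : p ∣ Nat.card (Matrix.ProjectiveSpecialLinearGroup (Fin 2) F) * Nat.gcd 2 (p - 1) := by
      rw [h1]; exact dvd_mul_right _ _
    rcases hp.dvd_mul.mp h2 with h3 | h3
    · exact h3
    · exfalso
      have h4 : p ∣ p - 1 := h3.trans (Nat.gcd_dvd_right _ _)
      have := Nat.le_of_dvd (by have := hp.two_le; omega) h4
      have := hp.two_le
      omega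
  have hnot : ¬ p ^ 2 ∣ Nat.card (Matrix.ProjectiveSpecialLinearGroup (Fin 2) F) := by
    intro h
    have h2 : p * p ∣ p * (p ^ 2 - 1) := by
      rw [← h1, ← pow_two]
      exact Dvd.dvd.mul_right h _
    exact hcop (Nat.dvd_of_mul_dvd_mul_left hp.pos h2)
  have h3 : (Nat.card (Matrix.ProjectiveSpecialLinearGroup (Fin 2) F)).factorization p = 1 := by
    apply le_antisymm
    · by_contra hcon
      exact hnot ((hp.pow_dvd_iff_le_factorization Nat.card_pos.ne').mpr (by omega))
    · exact (hp.dvd_iff_one_le_factorization Nat.card_pos.ne').mp hdvd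
  have h4 := P.card_eq_multiplicity
  rw [h3, pow_one] at h4
  exact h4

/-- Solvable overgroups of an element of prime power order at least five. -/
theorem overgroup (p : ℕ) [Fact p.Prime] [CharP F p]
    (hsub : ∀ k m : ℕ, 1 < k → k ^ m = Fintype.card F → k = Fintype.card F ∨ k = 2 ∨ k = 3)
    (H : Subgroup (Matrix.ProjectiveSpecialLinearGroup (Fin 2) F)) (hH : H ≠ ⊤)
    (hs : Group.IsSolvable H) {r j : ℕ} (hr : r.Prime) (hr2 : r ≠ 2) (hj : 5 ≤ r ^ j)
    {x : Matrix.ProjectiveSpecialLinearGroup (Fin 2) F} (hx : orderOf x = r ^ j) (hxH : x ∈ H)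
    (hcase : (r ≠ p ∧ ¬ r ∣ Fintype.card F - 1) ∨ (r = p ∧ Fintype.card F = p)) :
    H ≤ normalizer (zpowers x : Set (Matrix.ProjectiveSpecialLinearGroup (Fin 2) F)) := by
  have hodd : Odd (r ^ j) := (hr.odd_of_ne_two hr2).pow
  have h24 : ¬ r ^ j ∣ 24 := by
    intro h
    have h1 : Nat.Coprime (r ^ j) 8 := by
      rw [show 8 = 2 ^ 3 by norm_num]
      exact Nat.Coprime.pow_right 3 (Nat.coprime_two_right.mpr hodd)
    have h2 : r ^ j ∣ 3 := h1.dvd_of_dvd_mul_left (by rw [show 8 * 3 = 24 by norm_num]; exact h)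
    have := Nat.le_of_dvd (by norm_num) h2
    omega
  set x' : H := ⟨x, hxH⟩ with hx'
  have hox' : orderOf x' = r ^ j := by rw [hx', orderOf_mk, hx]
  have hcard : ∀ n : ℕ, Nat.card H = n → ¬ n ∣ 24 := by
    rintro n rfl h
    exact h24 (hox' ▸ (orderOf_dvd_natCard x').trans h)
  apply le_normalizer_zpowers
  intro g hg
  set g' : H := ⟨g, hg⟩ with hg'
  suffices h : g' * x' * g'⁻¹ ∈ zpowers x' by
    obtain ⟨k, hk⟩ := mem_zpowers_iff.mp h
    exact mem_zpowers_iff.mpr ⟨k, congrArg Subtype.val hk⟩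
  rcases Cfsg.Agent.S0799.result (F := F) rfl p H with
    ⟨k, -, ⟨hcyc, -⟩ | ⟨⟨e⟩⟩⟩ | ⟨P, K, hK, ⟨e⟩⟩ | ⟨⟨e⟩⟩ | ⟨⟨e⟩⟩ | ⟨⟨e⟩⟩ |
      ⟨K, hfield, hfin, m, hKm, ⟨⟨e⟩⟩ | ⟨⟨e⟩⟩⟩
  · have hc := hcyc.isMulCommutative
    have h1 : g' * x' = x' * g' := hc.is_comm.comm g' x'
    rw [h1, mul_inv_cancel_right]
    exact mem_zpowers _
  · refine mem_of_equiv e.toMonoidHom e.injective ?_
    apply dih_norm
    change Odd (orderOf (e x'))
    rw [MulEquiv.orderOf_eq, hox']
    exact hodd
  · have h2 : ((e x' : K) : Matrix.ProjectiveSpecialLinearGroup (Fin 2) F) ∈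
        normalizer ((P : Subgroup (Matrix.ProjectiveSpecialLinearGroup (Fin 2) F)) :
        Set (Matrix.ProjectiveSpecialLinearGroup (Fin 2) F)) := hK (e x').2
    have h3 : orderOf ((e x' : K) : Matrix.ProjectiveSpecialLinearGroup (Fin 2) F) = r ^ j := by
      rw [orderOf_coe, MulEquiv.orderOf_eq, hox']
    rcases hcase with ⟨hrp, hrq⟩ | ⟨rfl, hqp⟩
    · exfalso
      obtain ⟨k, hk⟩ := dvd_of_mem_normalizer p P h2
      rw [h3] at hk
      have hj0 : j ≠ 0 := by
        rintro rfl
        simp at hj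
      have h4 : r ∣ (Fintype.card F - 1) * p ^ k := (dvd_pow_self r hj0).trans hk
      rcases hr.dvd_mul.mp h4 with h5 | h5
      · exact hrq h5
      · exact hrp ((Nat.prime_dvd_prime_iff_eq hr Fact.out).mp (hr.dvd_of_dvd_pow h5))
    · -- `P` has order `p`
      have hPc := card_sylow_prime r hqp P
      have hxP : ((e x' : K) : Matrix.ProjectiveSpecialLinearGroup (Fin 2) F) ∈
          (P : Subgroup (Matrix.ProjectiveSpecialLinearGroup (Fin 2) F)) := by
        have h4 : IsPGroup r (zpowers ((e x' : K) : Matrix.ProjectiveSpecialLinearGroup (Fin 2) F)) := by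
          rw [IsPGroup.iff_card]
          exact ⟨j, by rw [Nat.card_zpowers, h3]⟩
        have h5 := h4.inf_normalizer_sylow P
        have h6 : ((e x' : K) : Matrix.ProjectiveSpecialLinearGroup (Fin 2) F) ∈
            zpowers ((e x' : K) : Matrix.ProjectiveSpecialLinearGroup (Fin 2) F) ⊓
            normalizer ((P : Subgroup (Matrix.ProjectiveSpecialLinearGroup (Fin 2) F)) :
            Set (Matrix.ProjectiveSpecialLinearGroup (Fin 2) F)) := ⟨mem_zpowers _, h2⟩
        exact (h5.le h6).2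
      have hPz : zpowers ((e x' : K) : Matrix.ProjectiveSpecialLinearGroup (Fin 2) F) =
          (P : Subgroup (Matrix.ProjectiveSpecialLinearGroup (Fin 2) F)) := by
        apply Subgroup.eq_of_le_of_card_ge
        · rwa [zpowers_le]
        · rw [hPc, Nat.card_zpowers, h3]
          have hj0 : j ≠ 0 := by
            rintro rfl
            simp at hj
          exact Nat.le_self_pow hj0 r
      refine mem_of_equiv (K.subtype.comp e.toMonoidHom)
        (K.subtype_injective.comp e.injective) ?_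
      change (e g' : Matrix.ProjectiveSpecialLinearGroup (Fin 2) F) * (e x' : _) * (e g' : _)⁻¹ ∈
        zpowers ((e x' : K) : Matrix.ProjectiveSpecialLinearGroup (Fin 2) F)
      rw [hPz]
      exact (mem_normalizer_iff.mp (hK (e g').2) _).mp hxP
  · exfalso
    refine hcard 12 ?_ (by norm_num)
    rw [Nat.card_congr e.toEquiv, Nat.card_eq_fintype_card]
    decide +kernel
  · exfalso
    refine hcard 24 ?_ (by norm_num)
    rw [Nat.card_congr e.toEquiv, Nat.card_eq_fintype_card, Fintype.card_perm, Fintype.card_fin]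
    decide
  · exfalso
    exact not_isSolvable_alternating_five
      (Group.isSolvable_of_surjective (f := e.toMonoidHom) e.surjective)
  · exfalso
    rcases hsub _ m Fintype.one_lt_card hKm with h2 | h2 | h2
    · apply hH
      apply Subgroup.eq_top_of_card_eq
      rw [Nat.card_congr e.toEquiv, card_PSL2_div, card_PSL2_div, h2]
    · refine hcard 6 ?_ (by norm_num)
      rw [Nat.card_congr e.toEquiv, card_PSL2_div, h2]
      norm_num
    · refine hcard 12 ?_ (by norm_num)
      rw [Nat.card_congr e.toEquiv, card_PSL2_div, h2]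
      norm_num
  · exfalso
    rcases hsub _ m Fintype.one_lt_card hKm with h2 | h2 | h2
    · apply hH
      apply Subgroup.eq_top_of_card_eq
      apply le_antisymm (Subgroup.card_le_card_group H)
      rw [Nat.card_congr e.toEquiv, card_PGL2, h2]
      exact Cfsg.Agent.S0810.card_psl_le F
    · refine hcard 6 ?_ (by norm_num)
      rw [Nat.card_congr e.toEquiv, card_PGL2, h2]
      norm_num
    · refine hcard 24 ?_ (by norm_num)
      rw [Nat.card_congr e.toEquiv, card_PGL2, h2]
      norm_num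

theorem not_crit_torus (hmin : IsMinimalSimple (Matrix.ProjectiveSpecialLinearGroup (Fin 2) F))
    (p : ℕ) [Fact p.Prime] [CharP F p]
    (hsub : ∀ k m : ℕ, 1 < k → k ^ m = Fintype.card F → k = Fintype.card F ∨ k = 2 ∨ k = 3)
    {r j : ℕ} (hr : r.Prime) (hr2 : r ≠ 2) (hj : 5 ≤ r ^ j)
    (hdvd : r ^ j ∣ (Fintype.card F + 1) / Nat.gcd 2 (Fintype.card F - 1))
    (hrp : r ≠ p) (hrq : ¬ r ∣ Fintype.card F - 1) :
    ¬ Crit (Matrix.ProjectiveSpecialLinearGroup (Fin 2) F) := by
  obtain ⟨C, D, hCD, -, hcyc, hCc, ⟨e⟩, -⟩ := PSLTorus.exists_psl_torus F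
  obtain ⟨c, hc⟩ := hcyc.exists_generator
  have hoc : orderOf c = (Fintype.card F + 1) / Nat.gcd 2 (Fintype.card F - 1) := by
    rw [orderOf_eq_card_of_forall_mem_zpowers hc, hCc]
  obtain ⟨t, ht⟩ := hdvd
  have ht0 : t ≠ 0 := by
    rintro rfl
    rw [mul_zero] at ht
    rw [ht] at hoc
    exact (orderOf_pos c).ne' hoc
  set x : Matrix.ProjectiveSpecialLinearGroup (Fin 2) F := C.subtype (c ^ t) with hx
  have hxo : orderOf x = r ^ j := by
    rw [hx, orderOf_injective C.subtype C.subtype_injective, orderOf_pow, hoc, ht,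
      Nat.gcd_mul_left_left, Nat.mul_div_cancel _ (Nat.pos_of_ne_zero ht0)]
  have hxD : x ∈ D := hCD (c ^ t).2
  have hx1 : x ≠ 1 := by
    intro h
    rw [h, orderOf_one] at hxo
    omega
  -- the involution
  obtain ⟨y, hy⟩ : ∃ y : D, orderOf y = 2 :=
    ⟨e.symm (DihedralGroup.sr 0), by rw [MulEquiv.orderOf_eq, DihedralGroup.orderOf_sr]⟩
  have hyo : orderOf (y : Matrix.ProjectiveSpecialLinearGroup (Fin 2) F) = 2 := by
    rw [orderOf_coe, hy]
  refine not_crit_of_norm hmin hr Nat.prime_two hr2 ⟨j, hxo⟩ hx1 (y := (y : _)) ⟨1, by rw [hyo, pow_one]⟩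
    ?_ ?_ ?_
  · intro h
    rw [h, orderOf_one] at hyo
    omega
  · refine le_normalizer_zpowers (H := D) ?_ y.2
    intro g hg
    have h1 : (⟨g, hg⟩ : D) * ⟨x, hxD⟩ * (⟨g, hg⟩ : D)⁻¹ ∈ zpowers (⟨x, hxD⟩ : D) := by
      refine mem_of_equiv e.toMonoidHom e.injective ?_
      apply dih_norm
      change Odd (orderOf (e ⟨x, hxD⟩))
      rw [MulEquiv.orderOf_eq, orderOf_mk, hxo]
      exact (hr.odd_of_ne_two hr2).pow
    obtain ⟨k, hk⟩ := mem_zpowers_iff.mp h1
    exact mem_zpowers_iff.mpr ⟨k, congrArg Subtype.val hk⟩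
  · intro H hH hxH
    exact overgroup p hsub H hH (hmin.2.2 H hH) hr hr2 hj hxo hxH (Or.inl ⟨hrp, hrq⟩)

theorem not_crit_prime (hmin : IsMinimalSimple (Matrix.ProjectiveSpecialLinearGroup (Fin 2) F))
    (p : ℕ) [Fact p.Prime] [CharP F p] (hq : Fintype.card F = p) (h5 : 5 ≤ p)
    (hsub : ∀ k m : ℕ, 1 < k → k ^ m = Fintype.card F → k = Fintype.card F ∨ k = 2 ∨ k = 3) :
    ¬ Crit (Matrix.ProjectiveSpecialLinearGroup (Fin 2) F) := by
  have hsimp : IsSimpleGroup (Matrix.ProjectiveSpecialLinearGroup (Fin 2) F) := hmin.1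
  have hp : p.Prime := Fact.out
  obtain ⟨P⟩ : Nonempty (Sylow p (Matrix.ProjectiveSpecialLinearGroup (Fin 2) F)) := inferInstance
  have hPc := card_sylow_prime p hq P
  have hcyc : IsCyclic (P : Subgroup (Matrix.ProjectiveSpecialLinearGroup (Fin 2) F)) :=
    isCyclic_of_prime_card hPc
  obtain ⟨c, hc⟩ := hcyc.exists_generator
  set x : Matrix.ProjectiveSpecialLinearGroup (Fin 2) F :=
    (P : Subgroup (Matrix.ProjectiveSpecialLinearGroup (Fin 2) F)).subtype c with hx
  have hPz : zpowers x = (P : Subgroup (Matrix.ProjectiveSpecialLinearGroup (Fin 2) F)) := by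
    apply le_antisymm
    · rw [zpowers_le]
      exact c.2
    · intro z hz
      obtain ⟨k, hk⟩ := mem_zpowers_iff.mp (hc ⟨z, hz⟩)
      exact mem_zpowers_iff.mpr ⟨k, congrArg Subtype.val hk⟩
  have hxo : orderOf x = p := by
    rw [← Nat.card_zpowers, hPz, hPc]
  have hx1 : x ≠ 1 := by
    intro h
    rw [h, orderOf_one] at hxo
    omega
  have hPt : (P : Subgroup (Matrix.ProjectiveSpecialLinearGroup (Fin 2) F)) ≠ ⊤ := by
    intro h
    rw [h] at hcyc hPc
    apply not_prime_card F (by omega)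
    rw [← Subgroup.card_top, hPc]
    exact hp
  obtain ⟨s, y, hs, hsp, hyo, hyN⟩ := exists_normalizer P (by
    intro a ha b hb
    rw [← hPz] at ha hb
    obtain ⟨i, rfl⟩ := mem_zpowers_iff.mp ha
    obtain ⟨k, rfl⟩ := mem_zpowers_iff.mp hb
    rw [← zpow_add, ← zpow_add, add_comm]) (by
    intro h
    rw [h, Subgroup.card_bot] at hPc
    omega) hPt
  refine not_crit_of_norm hmin hp hs (Ne.symm hsp) ⟨1, by rw [hxo, pow_one]⟩ hx1 (y := y)
    ⟨1, by rw [hyo, pow_one]⟩ ?_ ?_ ?_
  · intro h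
    rw [h, orderOf_one] at hyo
    exact hs.one_lt.ne hyo
  · rw [hPz]
    exact hyN
  · intro H hH hxH
    exact overgroup p hsub H hH (hmin.2.2 H hH) (r := p) (j := 1) hp (by omega) (by rwa [pow_one])
      (by rw [pow_one]; exact hxo) hxH (Or.inr ⟨rfl, hq⟩)

/-- The minimal simple groups `PSL₂(q)` do not satisfy the criterion. -/
theorem not_crit_psl_two (hmin : IsMinimalSimple (Matrix.ProjectiveSpecialLinearGroup (Fin 2) F)) :
    ¬ Crit (Matrix.ProjectiveSpecialLinearGroup (Fin 2) F) := by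
  rcases (Cfsg.Agent.S0810.result (F := F) rfl).mp hmin with
    ⟨f, hf, hq⟩ | ⟨f, hf, hf2, hq⟩ | hq'
  · -- characteristic two
    have hfact : Fact (Nat.Prime 2) := ⟨Nat.prime_two⟩
    have hchar : CharP F 2 := charP_of_card_eq_prime_pow hq
    have hsub : ∀ k m : ℕ, 1 < k → k ^ m = Fintype.card F →
        k = Fintype.card F ∨ k = 2 ∨ k = 3 := by
      intro k m hk hkm
      rw [hq] at hkm ⊢
      rcases Cfsg.Agent.S0810.sub_of_prime_pow Nat.prime_two hf hk hkm with h | h
      · exact Or.inl h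
      · exact Or.inr (Or.inl h)
    have hq4 : 4 ≤ Fintype.card F := by
      rw [hq]
      calc 4 = 2 ^ 2 := by norm_num
        _ ≤ 2 ^ f := Nat.pow_le_pow_right (by norm_num) hf.two_le
    have heven : Even (Fintype.card F) := by
      rw [hq]
      exact (Nat.even_pow' hf.ne_zero).mpr even_two
    have hgcd : Nat.gcd 2 (Fintype.card F - 1) = 1 := by
      have : Odd (Fintype.card F - 1) := Nat.Even.sub_odd (by omega) heven odd_one
      exact Nat.coprime_two_left.mpr this
    have hodd : Odd (Fintype.card F + 1) := heven.add_one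
    obtain ⟨r, j, hr, hj, hdvd⟩ : ∃ r j : ℕ, r.Prime ∧ 5 ≤ r ^ j ∧ r ^ j ∣ Fintype.card F + 1 := by
      by_cases h : ∃ r : ℕ, r.Prime ∧ r ∣ Fintype.card F + 1 ∧ r ≠ 3
      · obtain ⟨r, hr, hrd, hr3⟩ := h
        refine ⟨r, 1, hr, ?_, by rwa [pow_one]⟩
        have hr2 : r ≠ 2 := by
          rintro rfl
          exact (Nat.not_even_iff_odd.mpr hodd) (even_iff_two_dvd.mpr hrd)
        have h2 := hr.two_le
        have h4 : r ≠ 4 := by
          rintro rfl
          exact absurd hr (by norm_num)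
        rw [pow_one]
        omega
      · push Not at h
        have h1 := Nat.eq_prime_pow_of_unique_prime_dvd (n := Fintype.card F + 1) (p := 3)
          (by omega) (fun {d} hd hdd => h d hd hdd)
        refine ⟨3, _, Nat.prime_three, ?_, dvd_of_eq h1.symm⟩
        rw [← h1]
        omega
    have hj0 : j ≠ 0 := by
      rintro rfl
      simp at hj
    have hrd : r ∣ Fintype.card F + 1 := (dvd_pow_self r hj0).trans hdvd
    have hr2 : r ≠ 2 := by
      rintro rfl
      exact (Nat.not_even_iff_odd.mpr hodd) (even_iff_two_dvd.mpr hrd)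
    refine not_crit_torus hmin 2 hsub hr hr2 hj (by rwa [hgcd, Nat.div_one]) hr2 ?_
    intro h
    have h2 : r ∣ 2 := by
      have := Nat.dvd_sub hrd h
      rwa [show Fintype.card F + 1 - (Fintype.card F - 1) = 2 by omega] at this
    exact hr2 ((Nat.prime_dvd_prime_iff_eq hr Nat.prime_two).mp h2)
  · -- characteristic three
    have hfact : Fact (Nat.Prime 3) := ⟨Nat.prime_three⟩
    have hchar : CharP F 3 := charP_of_card_eq_prime_pow hq
    have hsub : ∀ k m : ℕ, 1 < k → k ^ m = Fintype.card F →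
        k = Fintype.card F ∨ k = 2 ∨ k = 3 := by
      intro k m hk hkm
      rw [hq] at hkm ⊢
      rcases Cfsg.Agent.S0810.sub_of_prime_pow Nat.prime_three hf hk hkm with h | h
      · exact Or.inl h
      · exact Or.inr (Or.inr h)
    obtain ⟨i, hi⟩ := hf.odd_of_ne_two hf2
    have hi1 : 1 ≤ i := by
      rcases Nat.eq_zero_or_pos i with h0 | h0
      · rw [h0] at hi
        rw [hi] at hf
        exact absurd hf (by norm_num)
      · exact h0
    have hqi : Fintype.card F = 3 * 9 ^ i := by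
      rw [hq, hi, pow_succ, pow_mul]
      norm_num
      ring
    have h9 : 9 ^ i % 8 = 1 := by
      rw [Nat.pow_mod]
      norm_num
    have h9' : 9 ∣ 9 ^ i := dvd_pow_self 9 (by omega)
    have h9pos : 9 ≤ 9 ^ i := Nat.le_of_dvd (by positivity) h9'
    -- `(q + 1) / 4` is odd, prime to three
    obtain ⟨u, hu⟩ : ∃ u, Fintype.card F + 1 = 4 * u := ⟨(Fintype.card F + 1) / 4, by omega⟩
    have huodd : u % 2 = 1 := by omega
    have hu7 : 7 ≤ u := by omega
    have hgcd : Nat.gcd 2 (Fintype.card F - 1) = 2 := by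
      apply Nat.gcd_eq_left
      omega
    have hu1 : u ≠ 1 := by omega
    have hr : (Nat.minFac u).Prime := Nat.minFac_prime hu1
    have hrd : Nat.minFac u ∣ u := Nat.minFac_dvd u
    set r := Nat.minFac u with hrdef
    have hrq : r ∣ Fintype.card F + 1 := hu ▸ (hrd.mul_left 4)
    have hr2 : r ≠ 2 := by
      intro h
      rw [h] at hrd
      omega
    have hr3 : r ≠ 3 := by
      intro h
      rw [h] at hrq
      omega
    have hr4 : r ≠ 4 := by
      intro h
      rw [h] at hr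
      exact absurd hr (by norm_num)
    have h5 : 5 ≤ r := by
      have := hr.two_le
      omega
    refine not_crit_torus hmin 3 hsub (r := r) (j := 1) hr hr2 (by rwa [pow_one]) ?_ hr3 ?_
    · rw [pow_one, hgcd, hu, show 4 * u / 2 = 2 * u by omega]
      exact hrd.mul_left 2
    · intro h
      have h2 : r ∣ 2 := by
        have := Nat.dvd_sub hrq h
        rwa [show Fintype.card F + 1 - (Fintype.card F - 1) = 2 by omega] at this
      exact hr2 ((Nat.prime_dvd_prime_iff_eq hr Nat.prime_two).mp h2)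
  · -- prime fields
    have hqp : (Fintype.card F).Prime ∧ 5 ≤ Fintype.card F := by
      rcases hq' with ⟨h1, h2, -⟩ | h
      · exact ⟨h1, h2.le⟩
      · rw [h]
        exact ⟨by norm_num, le_refl _⟩
    have hfact : Fact (Nat.Prime (Fintype.card F)) := ⟨hqp.1⟩
    have hchar : CharP F (Fintype.card F) := charP_of_card_eq_prime rfl
    refine not_crit_prime hmin (Fintype.card F) rfl hqp.2 ?_
    intro k m hk hkm
    exact Or.inl (Cfsg.Agent.S0810.sub_of_prime hqp.1 hk hkm)

end psl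

end Cfsg.Agent.H983.PairPSL
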