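import Mathlib
import Cfsg.Agent.H983.PairTriple
import Cfsg.Agent.LieExceptional.SuzukiHyp
import Cfsg.Agent.Lib.SolvableMinNormal

/-!
# Suzuki groups: elements with a unique maximal overgroup (for S3843)
-/

set_option autoImplicit false

namespace Cfsg.Agent.H983.PairSz

open Cfsg Subgroup MulAction
open Cfsg.Agent.H983.PairCrit Cfsg.Agent.H983.PairTriple
open Cfsg.Agent.LieExceptional.SuzukiTori Cfsg.Agent.LieExceptional.SuzukiTori.Hyp

section

variable {G Ω : Type*} [Group G] [Finite G] [MulAction G Ω] [Finite Ω] {q : ℕ}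

/-- A non-free nontrivial element has a fixed point, and at most two. -/
theorem exists_fix {g : G} (h : g ∉ free G Ω) : ∃ ω : Ω, g • ω = ω := by
  by_contra hcon
  push Not at hcon
  exact h (mem_free_iff.mpr hcon)

omit [Finite G] in
/-- At most two fixed points, elementwise. -/
theorem three_pts (H : Hyp G Ω q) {g : G} (hg : g ≠ 1) {a b c : Ω} (ha : g • a = a) (hb : g • b = b)
    (hc : g • c = c) : a = b ∨ a = c ∨ b = c := by
  classical
  by_contra hcon
  push Not at hcon
  obtain ⟨hab, hac, hbc⟩ := hcon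
  have h1 := H.three g hg
  have h2 : ({a, b, c} : Set Ω) ⊆ fixedBy Ω g := by
    rintro x (rfl | rfl | rfl) <;> assumption
  have h3 := Set.ncard_le_ncard h2 (Set.toFinite _)
  have h4 : ({a, b, c} : Set Ω).ncard = 3 := Set.ncard_eq_three.mpr ⟨a, b, c, hab, hac, hbc, rfl⟩
  rw [h4] at h3
  rw [Nat.card_coe_set_eq] at h1
  omega

theorem odd_card (H : Hyp G Ω q) : Nat.card Ω % 2 = 1 := by
  have h1 := H.even_q
  rw [H.card_set, Nat.add_mod, Nat.pow_mod, Nat.even_iff.mp h1]

/-- Commuting nontrivial elements of prime order `ℓ` have the same fixed points. -/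
theorem fix_of_commute (H : Hyp G Ω q) {l : ℕ} (hl : l.Prime) {a b : G} (hab : Commute a b)
    (ha : a ≠ 1) (hal : a ^ l = 1) (hbl : b ^ l = 1) {ω : Ω} (hω : a • ω = ω) : b • ω = ω := by
  by_contra hne
  have h1 : a • (b • ω) = b • ω := by rw [← mul_smul, hab.eq, mul_smul, hω]
  have h2 : a • (b • b • ω) = b • b • ω := by rw [← mul_smul a, hab.eq, mul_smul, h1]
  have h3 : b • b • ω = ω := by
    rcases three_pts H ha hω h1 h2 with h | h | h
    · exact absurd h.symm hne
    · exact h.symm
    · exact absurd (smul_left_cancel b h).symm hne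
  rcases hl.eq_two_or_odd' with rfl | hodd
  · -- the number of fixed points is odd
    have h4 := card_modEq_fixedBy (Ω := Ω) Nat.prime_two hal
    have h5 := odd_card H
    have h6 := H.three a ha
    have h7 : Nat.card (fixedBy Ω a) = 1 := by
      unfold Nat.ModEq at h4
      omega
    have h8 := (Nat.card_eq_one_iff_unique.mp h7).1
    have h9 := h8.elim (⟨ω, hω⟩ : fixedBy Ω a) ⟨b • ω, h1⟩
    exact hne (congrArg Subtype.val h9).symm
  · obtain ⟨k, hk⟩ := hodd
    have h4 : ∀ n : ℕ, (b ^ (2 * n)) • ω = ω := by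
      intro n
      induction n with
      | zero => simp
      | succ n ih =>
        rw [show 2 * (n + 1) = 2 * n + 1 + 1 by ring, pow_succ, pow_succ, mul_smul, mul_smul, h3, ih]
    apply hne
    have h5 : b ^ (2 * (k + 1)) = b := by
      rw [show 2 * (k + 1) = l + 1 by omega, pow_succ, hbl, one_mul]
    have h6 := h4 (k + 1)
    rwa [h5] at h6

/-- Solvable overgroups of a free element of prime order. -/
theorem overgroup (H : Hyp G Ω q) {z : G} (hz : z ∈ free G Ω) {p : ℕ} (hp : p.Prime)
    (hzo : orderOf z = p) (K : Subgroup G) (hK : Group.IsSolvable K) (hzK : z ∈ K) :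
    K ≤ normalizer ((centralizer ({z} : Set G) : Subgroup G) : Set G) := by
  have hpq : p ∣ q ^ 2 + 1 := H.dvd_of_free hz hp (hzo ▸ dvd_refl _)
  have hp5 : 5 ≤ p := (H.prime_dvd_facts hp hpq).1
  have hz1 : z ≠ 1 := fun h => H.one_notMem_free (h ▸ hz)
  have hnt : Nontrivial K := ⟨⟨⟨z, hzK⟩, 1, fun h => hz1 (congrArg Subtype.val h)⟩⟩
  obtain ⟨l, hl, N, hNchar, hNcomm, hNl, hN1⟩ :=
    Cfsg.Agent.Lib.SolvableMinNormal.exists_characteristic_pgroup (G := K)
  have hfl : Fact l.Prime := ⟨hl⟩
  -- an element of order `l` of `N`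
  have hNnt : Nontrivial N := (Subgroup.nontrivial_iff_ne_bot N).mpr hN1
  obtain ⟨a', ha'⟩ : ∃ a' : N, orderOf a' = l := by
    obtain ⟨n, hn⟩ := IsPGroup.iff_card.mp hNl
    have hn0 : n ≠ 0 := by
      rintro rfl
      rw [pow_zero] at hn
      have := (Nat.card_eq_one_iff_unique.mp hn).1
      exact not_subsingleton N this
    exact exists_prime_orderOf_dvd_card' l (hn ▸ dvd_pow_self l hn0)
  set a : G := ((a' : K) : G) with ha
  have hao : orderOf a = l := by rw [ha, orderOf_coe, orderOf_coe, ha']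
  have hal : a ^ l = 1 := by rw [← hao]; exact pow_orderOf_eq_one a
  have ha1 : a ≠ 1 := by
    intro h
    rw [h, orderOf_one] at hao
    exact hl.one_lt.ne hao
  have haK : a ∈ K := (a' : K).2
  have hNn : N.Normal := inferInstance
  -- the conjugates of `a` commute with `a`
  have hcomm : ∀ g ∈ K, Commute (g * a * g⁻¹) a := by
    intro g hg
    have h1 : (⟨g, hg⟩ : K) * (a' : K) * (⟨g, hg⟩ : K)⁻¹ ∈ N := hNn.conj_mem _ a'.2 _
    have h2 : (⟨_, h1⟩ : N) * a' = a' * ⟨_, h1⟩ := hNcomm.is_comm.comm _ _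
    exact congrArg (fun x : N => ((x : K) : G)) h2
  by_cases hfree : a ∈ free G Ω
  · -- `a` is free
    have hnorm : K ≤ normalizer ((centralizer ({a} : Set G) : Subgroup G) : Set G) := by
      intro g hg
      refine H.ti hfree g a (mem_centralizer_singleton_iff.mpr rfl) ha1 ?_
      rw [mem_centralizer_singleton_iff]
      exact hcomm g hg
    obtain ⟨n, hn1, hn4, -, -, hcard, -⟩ := H.data hfree
    set D : Subgroup G := centralizer ({a} : Set G) with hD
    set M : Subgroup G := normalizer (D : Set G) with hM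
    have hle : D ≤ M := le_normalizer
    have hDn : (D.subgroupOf M).Normal := Subgroup.normal_in_normalizer
    have hidx : (D.subgroupOf M).index = n := by
      have h1 := (D.subgroupOf M).card_mul_index
      have h2 : Nat.card (D.subgroupOf M) = Nat.card D :=
        Nat.card_congr (Subgroup.subgroupOfEquivOfLe hle).toEquiv
      rw [h2, hcard, mul_comm n] at h1
      exact Nat.eq_of_mul_eq_mul_left Nat.card_pos h1
    have hzM : z ∈ M := hnorm hzK
    have hzn : z ^ n ∈ D := by
      have h1 := Subgroup.pow_index_mem (D.subgroupOf M) (⟨z, hzM⟩ : M)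
      rw [hidx, Subgroup.mem_subgroupOf] at h1
      exact h1
    have hzD : z ∈ D := by
      have hcop : Nat.Coprime n p := by
        rw [Nat.coprime_comm, hp.coprime_iff_not_dvd]
        intro h
        have := Nat.le_of_dvd (by omega) h
        omega
      have h1 : z ∈ zpowers (z ^ n) := by
        rw [← hzo] at hcop
        obtain ⟨k, hk⟩ := exists_pow_eq_self_of_coprime hcop
        exact mem_zpowers_iff.mpr ⟨k, by rw [zpow_natCast, hk]⟩
      exact (zpowers_le.mpr hzn) h1
    have hCz : centralizer ({z} : Set G) = D := H.centralizer_eq hfree hzD hz1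
    rw [hCz]
    exact hnorm
  · -- `a` has fixed points
    exfalso
    obtain ⟨ω, hω⟩ := exists_fix hfree
    have hstep : ∀ ω : Ω, a • ω = ω → a • (z • ω) = z • ω := by
      intro ω hω
      have h1 : (z * a * z⁻¹) • (z • ω) = z • ω := by
        rw [mul_smul, mul_smul, inv_smul_smul, hω]
      have h2 : (z * a * z⁻¹) ^ l = 1 := by rw [conj_pow, hal, mul_one, mul_inv_cancel]
      have h3 : z * a * z⁻¹ ≠ 1 := by
        intro h
        apply ha1
        have : a = z⁻¹ * (z * a * z⁻¹) * z := by group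
        rw [this, h]
        simp
      exact fix_of_commute H hl (hcomm z hzK) h3 h2 hal h1
    have h1 := hstep ω hω
    have h2 := hstep _ h1
    have hzfix : ∀ ω : Ω, z • ω ≠ ω := mem_free_iff.mp hz
    rcases three_pts H ha1 hω h1 h2 with h | h | h
    · exact hzfix ω h.symm
    · -- `z ^ 2` fixes `ω`
      have hz2 : z * z ∈ free G Ω := by
        refine H.free_of_commute hz (Commute.mul_right (Commute.refl z) (Commute.refl z)) ?_
        intro h3
        have h4 : orderOf z ∣ 2 := orderOf_dvd_of_pow_eq_one (by rw [pow_two, h3])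
        have := Nat.le_of_dvd (by norm_num) h4
        omega
      apply mem_free_iff.mp hz2 ω
      rw [mul_smul]
      exact h.symm
    · exact hzfix _ h.symm

/-- The criterion fails. -/
theorem not_crit_of_hyp (H : Hyp G Ω q) {m : ℕ} (hq : q = 2 ^ (2 * m + 1)) (hG : IsMinimalSimple G) :
    ¬ Crit G := by
  have hsimp : IsSimpleGroup G := hG.1
  obtain ⟨g, hg, hcard, hnorm⟩ := H.exists_tori hq _ (Or.inl rfl)
  set k := q + 2 ^ (m + 1) + 1 with hk
  have h8 := H.eight_le
  have h2pos : 0 < 2 ^ (m + 1) := by positivity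
  have hk1 : k ≠ 1 := by omega
  have hpr : (Nat.minFac k).Prime := Nat.minFac_prime hk1
  set p := Nat.minFac k with hp
  have hfp : Fact p.Prime := ⟨hpr⟩
  have hpk : p ∣ Nat.card (centralizer ({g} : Set G)) := by
    rw [hcard]
    exact Nat.minFac_dvd k
  obtain ⟨z', hz'⟩ := exists_prime_orderOf_dvd_card' p hpk
  set z : G := (centralizer ({g} : Set G)).subtype z' with hz
  have hzo : orderOf z = p := by
    rw [hz, orderOf_injective _ (centralizer ({g} : Set G)).subtype_injective, hz']
  have hz1 : z ≠ 1 := by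
    intro h
    rw [h, orderOf_one] at hzo
    exact hpr.one_lt.ne hzo
  have hzC : z ∈ centralizer ({g} : Set G) := z'.2
  have hzf : z ∈ free G Ω := H.free_of_mem hg hzC hz1
  have hCz : centralizer ({z} : Set G) = centralizer ({g} : Set G) := H.centralizer_eq hg hzC hz1
  set M : Subgroup G := normalizer ((centralizer ({z} : Set G) : Subgroup G) : Set G) with hM
  have hMc : Nat.card M = 4 * k := by rw [hM, hCz]; exact hnorm
  have hMtop : M ≠ ⊤ := by
    intro h
    have h1 : Nat.card M = Nat.card G := by rw [h]; exact Subgroup.card_top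
    rw [hMc, H.card_group] at h1
    have h2 : 2 ^ (m + 1) ≤ q := by
      rw [hq]
      exact Nat.pow_le_pow_right (by norm_num) (by omega)
    have h3 : 4 * k < q ^ 2 * (q - 1) * (q ^ 2 + 1) := by
      have h4 : 4 * k ≤ 12 * q := by omega
      have h5 : 1 ≤ q - 1 := by omega
      have h6 : q ^ 2 * 1 * (q ^ 2 + 1) ≤ q ^ 2 * (q - 1) * (q ^ 2 + 1) := by gcongr
      have h64 : 64 ≤ q ^ 2 := by nlinarith
      have h8q : 8 * q ≤ q ^ 2 + 1 := by nlinarith
      have h7 : 12 * q < q ^ 2 * 1 * (q ^ 2 + 1) := by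
        calc 12 * q < 64 * (8 * q) := by omega
          _ ≤ q ^ 2 * (q ^ 2 + 1) := Nat.mul_le_mul h64 h8q
          _ = q ^ 2 * 1 * (q ^ 2 + 1) := by ring
      omega
    omega
  have h2M : 2 ∣ Nat.card M := by rw [hMc]; omega
  obtain ⟨y', hy'⟩ := exists_prime_orderOf_dvd_card' 2 h2M
  have hyo : orderOf (M.subtype y') = 2 := by
    rw [orderOf_injective _ M.subtype_injective, hy']
  have hp2 : p ≠ 2 := by
    have := (H.prime_dvd_facts hpr (H.dvd_of_free hzf hpr (hzo ▸ dvd_refl _))).1
    omega
  refine not_crit hG hpr Nat.prime_two hp2 (x := z) (y := M.subtype y') ⟨1, by rw [hzo, pow_one]⟩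
    ⟨1, by rw [hyo, pow_one]⟩ ?_ M hMtop ?_ y'.2 ?_
  · intro h
    rw [h, orderOf_one] at hyo
    omega
  · intro K hK hzK
    exact overgroup H hzf hpr hzo K (hG.2.2 K hK) hzK
  · exact le_normalizer (mem_centralizer_singleton_iff.mpr rfl)

end

/-- The minimal simple Suzuki groups do not satisfy the criterion. -/
theorem not_crit_suzuki {F : Type*} [Field F] [Fintype F] {m : ℕ} (hm : 1 ≤ m)
    (hF : Fintype.card F = 2 ^ (2 * m + 1)) (hG : IsMinimalSimple (Cfsg.Sz F m)) :
    ¬ Crit (Cfsg.Sz F m) := by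
  have : Finite (Cfsg.suzukiOvoid F m) :=
    Finite.of_equiv _ (Cfsg.Agent.LieExceptional.SuzukiBasic.ovoidEquiv F m)
  exact not_crit_of_hyp (Cfsg.Agent.LieExceptional.SuzukiHyp.hyp hm hF) rfl hG

end Cfsg.Agent.H983.PairSz
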