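import Cfsg.Agent.H516.TwoFrame
import Cfsg.Agent.TypeM.FactsAut
import Cfsg.Agent.H799.MTSyl

/-!
# S4094, S3842, S4095 at the prime 2: `McL` and `Ly` (helper983)

`N` has one class of involutions and `C_N(t) = 2.A_n`, `n = 8` or `n = 11`. The element `x` normalizes a Sylow
2-subgroup `T` of `G`, hence centralizes the unique involution `t` of `Z(T ∩ N)`. As `x` is central modulo `O₂(C_G(t))`
in `C_G(t)` and `O₂(C_N(t)) = ⟨t⟩`, `x` centralizes `C_N(t)`, and then `x = 1` or `x = t`; but `x² ≠ 1`.

* `false_of_mt` : no `Wk 2 N x` with `2 ∣ o(x)` and `N` of type `MT n` (order of `McL` or `Ly`).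
-/

set_option autoImplicit false

namespace Cfsg.Agent.H983.TwoMT

open Subgroup Cfsg Cfsg.Agent.TypeM.Two Cfsg.Agent.TypeM.FactsAut Cfsg.Agent.SporRec.TwoAn
open Cfsg.Agent.H516.Zip Cfsg.Agent.H516.Two Cfsg.Agent.H472.ComRed Cfsg.Agent.H799
open Cfsg.Agent.Lib.Cores

universe u

section grp

variable {S : Type*} [Group S] {n : ℕ}

/-- The only involution of the centre of a Sylow 2-subgroup is `t`. -/
theorem eq_of_central [Finite S] (hn : n < 16) (L : MT n S) (T : Sylow 2 S)
    (htc : ∀ x ∈ T, x * L.t = L.t * x) {w : S} (hw : w ∈ T) (hww : w * w = 1) (hw1 : w ≠ 1)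
    (hwc : ∀ x ∈ T, x * w = w * x) : w = L.t := by
  have h2 : Fact (Nat.Prime 2) := ⟨Nat.prime_two⟩
  by_contra hne
  have hwt : w * L.t = L.t * w := htc w hw
  have htt := L.t_mul_t
  have hwi : w⁻¹ = w := inv_eq_of_mul_eq_one_left hww
  obtain ⟨c, hct, hc⟩ := L.conj_in_centralizer hn (r := w) (s := w * L.t) hwt (by rw [← mul_assoc, hwt]) hww hw1 hne
    (by
      calc w * L.t * (w * L.t) = w * (L.t * w) * L.t := by group
        _ = (w * w) * (L.t * L.t) := by rw [← hwt]; group
        _ = 1 := by rw [hww, htt, mul_one])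
    (by
      intro h
      apply hne
      rw [← hwi]
      exact (eq_inv_of_mul_eq_one_right h).symm ▸ rfl)
    (fun h => hw1 (mul_eq_right.1 h))
  have hcw : c * w = w * L.t * c := by rw [← hc]; group
  have hx1 : ∀ g : S, g * w = w * L.t * g → g * (w * L.t) = w * g ∨ ¬ g * L.t = L.t * g := by
    intro g hg
    by_cases h : g * L.t = L.t * g
    · left
      calc g * (w * L.t) = (g * w) * L.t := by group
        _ = w * L.t * g * L.t := by rw [hg]
        _ = w * L.t * (g * L.t) := by group
        _ = w * (L.t * L.t) * g := by rw [h]; group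
        _ = w * g := by rw [htt, mul_one]
    · exact Or.inr h
  let F : Subgroup S :=
    { carrier := {g | g * L.t = L.t * g ∧ (g * w = w * g ∨ g * w = w * L.t * g)}
      one_mem' := ⟨by rw [one_mul, mul_one], Or.inl (by rw [one_mul, mul_one])⟩
      mul_mem' := by
        rintro a b ⟨ha, ha'⟩ ⟨hb, hb'⟩
        have hab : a * b * L.t = L.t * (a * b) := by rw [mul_assoc, hb, ← mul_assoc, ha, mul_assoc]
        refine ⟨hab, ?_⟩
        rcases hb' with hb' | hb' <;> rcases ha' with ha' | ha'
        · left; rw [mul_assoc, hb', ← mul_assoc, ha', mul_assoc]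
        · right; rw [mul_assoc, hb', ← mul_assoc, ha', mul_assoc]
        · right
          calc a * b * w = a * (b * w) := mul_assoc _ _ _
            _ = (a * w) * L.t * b := by rw [hb']; group
            _ = w * (a * L.t) * b := by rw [ha']; group
            _ = w * L.t * (a * b) := by rw [ha]; group
        · left
          rcases hx1 a ha' with h | h
          · calc a * b * w = a * (b * w) := mul_assoc _ _ _
              _ = a * (w * L.t) * b := by rw [hb']; group
              _ = w * (a * b) := by rw [h, mul_assoc]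
          · exact absurd ha h
      inv_mem' := by
        rintro a ⟨ha, ha'⟩
        have h1 : a⁻¹ * L.t = L.t * a⁻¹ := by
          rw [inv_mul_eq_iff_eq_mul, ← mul_assoc, ha, mul_inv_cancel_right]
        refine ⟨h1, ?_⟩
        rcases ha' with ha' | ha'
        · left
          rw [inv_mul_eq_iff_eq_mul, ← mul_assoc, ha', mul_inv_cancel_right]
        · right
          rcases hx1 a ha' with h | h
          · rw [inv_mul_eq_iff_eq_mul, ← mul_assoc, h, mul_inv_cancel_right]
          · exact absurd ha h }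
  set E : Subgroup S := centralizer {w} ⊓ centralizer {L.t} with hE
  have hmem : ∀ g, g ∈ E ↔ g * w = w * g ∧ g * L.t = L.t * g := by
    intro g
    rw [hE, mem_inf, mem_centralizer_singleton_iff, mem_centralizer_singleton_iff]
  have hTE : (T : Subgroup S) ≤ E := fun g hg => (hmem g).2 ⟨hwc g hg, htc g hg⟩
  have hEF : E ≤ F := fun g hg => ⟨((hmem g).1 hg).2, Or.inl ((hmem g).1 hg).1⟩
  have hwt1 : w * L.t ≠ w := fun h => L.t_ne (mul_eq_left.1 h)
  have h3 : E.relIndex F = 2 := by
    rw [relIndex_eq_two_iff]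
    refine ⟨c, ⟨hct, Or.inr hcw⟩, ?_⟩
    rintro b ⟨hb, hb'⟩
    have hbc : b * c * L.t = L.t * (b * c) := by rw [mul_assoc, hct, ← mul_assoc, hb, mul_assoc]
    rcases hb' with hb' | hb'
    · right
      refine ⟨(hmem b).2 ⟨hb', hb⟩, fun h => ?_⟩
      have h4 := ((hmem _).1 h).1
      have h5 : b * c * w = w * L.t * (b * c) := by
        calc b * c * w = b * (c * w) := mul_assoc _ _ _
          _ = (b * w) * L.t * c := by rw [hcw]; group
          _ = w * (b * L.t) * c := by rw [hb']; group
          _ = w * L.t * (b * c) := by rw [hb]; group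
      rw [h4] at h5
      exact hwt1 (mul_right_cancel h5).symm
    · left
      refine ⟨(hmem _).2 ⟨?_, hbc⟩, fun h => ?_⟩
      · rcases hx1 b hb' with h | h
        · calc b * c * w = b * (c * w) := mul_assoc _ _ _
            _ = b * (w * L.t) * c := by rw [hcw]; group
            _ = w * (b * c) := by rw [h, mul_assoc]
        · exact absurd hb h
      · have h4 := ((hmem _).1 h).1
        rw [h4] at hb'
        exact hwt1 (mul_right_cancel hb').symm
  apply T.not_dvd_index
  have h4 := relIndex_mul_relIndex _ _ _ hTE hEF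
  have h5 := relIndex_mul_index (hTE.trans hEF)
  rw [← h5, ← h4, h3]
  exact ⟨(T : Subgroup S).relIndex E * F.index, by ring⟩

end grp

section ctx

variable {G : Type u} [Group G] [Finite G] {N : Subgroup G} {x : G} {n : ℕ}

/-- **The row `MT n`** (`McL` for `n = 8`, `Ly` for `n = 11`). -/
theorem false_of_mt (hn : n = 8 ∨ n = 11) (h : Wk 2 N x) (hx2 : 2 ∣ orderOf x) (L₀ : MT n N) (hG : OrderEq n N) :
    False := by
  have h2 : Fact (Nat.Prime 2) := ⟨Nat.prime_two⟩
  have hN := h.normal
  have hn16 : n < 16 := by omega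
  obtain ⟨T, hT, hxT⟩ := exists_mx_norm h hx2
  obtain ⟨T₀, hT₀⟩ := exists_sylow_inf hN hT
  obtain ⟨z, hzT, hzz, hz1, hzc⟩ := MTSyl.exists_central T₀ (MTSyl.ne_bot L₀ T₀)
  obtain ⟨L, rfl⟩ := L₀.exists_rebase hzz hz1
  set φ := cn hN x with hφ
  have hmem : ∀ w : N, φ w ∈ T₀ ↔ w ∈ T₀ := by
    intro w
    show φ w ∈ (T₀ : Subgroup N) ↔ w ∈ (T₀ : Subgroup N)
    rw [hT₀, mem_subgroupOf, mem_subgroupOf, hφ, cn_coe]
    exact (mem_normalizer_iff.1 hxT w).symm
  have hφt : φ L.t = L.t := by
    refine eq_of_central hn16 L T₀ hzc ((hmem _).2 hzT) (by rw [← map_mul, L.t_mul_t, map_one])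
      (fun h1 => L.t_ne (φ.injective (h1.trans (map_one φ).symm))) ?_
    intro y hy
    have h1 : φ.symm y ∈ T₀ := by
      rw [← hmem, MulEquiv.apply_symm_apply]; exact hy
    have h3 := congrArg φ (hzc _ h1)
    rwa [map_mul, map_mul, MulEquiv.apply_symm_apply] at h3
  have hxt : x * L.t * x⁻¹ = L.t := by rw [← cn_coe hN, ← hφ, hφt]
  have hxt' : x * L.t = L.t * x := mul_inv_eq_iff_eq_mul.1 hxt
  set D := centralizer ({(L.t : G)} : Set G) with hDdef
  have hxD : x ∈ D := mem_centralizer_singleton_iff.2 hxt'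
  have hD : D ≠ ⊤ := by
    intro h1
    have h3 : (L.t : G) ∈ centralizer (N : Set G) := by
      rw [mem_centralizer_iff]
      intro s _
      have : s ∈ D := by rw [h1]; trivial
      exact mem_centralizer_singleton_iff.1 this
    rw [h.cent, mem_bot] at h3
    exact L.t_ne (Subtype.ext h3)
  -- `O₂(D) ∩ N` maps trivially to `A_n`
  let A : Subgroup (centralizer ({L.t} : Set N)) :=
    ((oc 2 D).comap N.subtype).comap (centralizer ({L.t} : Set N)).subtype
  have hA : ∀ c : centralizer ({L.t} : Set N), c ∈ A ↔ ((c : N) : G) ∈ oc 2 D := fun _ => Iff.rfl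
  have hcD : ∀ c : centralizer ({L.t} : Set N), ((c : N) : G) ∈ D := by
    intro c
    exact mem_centralizer_singleton_iff.2 (congrArg Subtype.val (mem_centralizer_singleton_iff.1 c.2))
  have hAn : A.Normal := by
    refine ⟨fun a ha g => ?_⟩
    rw [hA] at ha ⊢
    exact oc_conj (hcD g) ha
  have hAp : IsPGroup 2 A := ((oc_pg D).comap_of_injective N.subtype N.subtype_injective).comap_of_injective _
    (Subtype.val_injective)
  have hAt : ∀ a ∈ A, L.K.π a = 1 := by
    have hs : IsSimpleGroup (alternatingGroup (Fin n)) :=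
      alternatingGroup.isSimpleGroup (by rw [Nat.card_eq_fintype_card, Fintype.card_fin]; omega)
    have h3 : (A.map (MTSyl.proj L)).Normal := hAn.map _ (MTSyl.proj_surj L)
    rcases hs.eq_bot_or_eq_top_of_normal _ h3 with h4 | h4
    · intro a ha
      have h5 : MTSyl.proj L a ∈ A.map (MTSyl.proj L) := ⟨a, ha, rfl⟩
      rw [h4, mem_bot] at h5
      exact congrArg Subtype.val h5
    · exfalso
      have h5 : IsPGroup 2 (⊤ : Subgroup (alternatingGroup (Fin n))) := h4 ▸ hAp.map _
      have h6 : IsPGroup 2 (alternatingGroup (Fin n)) := h5.of_equiv Subgroup.topEquiv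
      obtain ⟨k, hk⟩ := h6.exists_card_eq
      have : Nontrivial (Fin n) := Fin.nontrivial_iff_two_le.2 (by omega)
      have h7 : 2 * Nat.card (alternatingGroup (Fin n)) = n.factorial := by
        have := two_mul_card_alternatingGroup (α := Fin n)
        rwa [Fintype.card_perm, Fintype.card_fin, ← Nat.card_eq_fintype_card] at this
      have h8 : 3 ∣ 2 * 2 ^ k := by
        rw [← hk, h7]
        exact Nat.dvd_factorial (by norm_num) (by omega)
      rcases (Nat.Prime.dvd_mul Nat.prime_three).1 h8 with h9 | h9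
      · exact absurd h9 (by norm_num)
      · exact absurd (Nat.prime_three.dvd_of_dvd_pow h9) (by norm_num)
  have key : ∀ c : centralizer ({L.t} : Set N), L.K.π (resAut L.t φ hφt c) = L.K.π c := by
    intro c
    have h3 : resAut L.t φ hφt c * c⁻¹ ∈ A := by
      rw [hA]
      have h4 : (((resAut L.t φ hφt c * c⁻¹ : centralizer ({L.t} : Set N)) : N) : G) = x * (c : N) * x⁻¹ * ((c : N) : G)⁻¹ := by
        show ((φ (c : N) : N) : G) * ((c : N) : G)⁻¹ = _
        rw [hφ, cn_coe]
      rw [h4]
      have h5 := cm_mem_oc h hxD hD (hcD c)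
      have h6 := oc_conj hxD h5
      have h7 := inv_mem h6
      have h8 : (x * (x⁻¹ * (((c : N) : G) * x * ((c : N) : G)⁻¹)) * x⁻¹)⁻¹ = x * (c : N) * x⁻¹ * ((c : N) : G)⁻¹ := by group
      rwa [h8] at h7
    have h4 := hAt _ h3
    rwa [map_mul, map_inv, mul_inv_eq_one] at h4
  have h5 : 5 ≤ Fintype.card (Fin n) := by rw [Fintype.card_fin]; omega
  have hone := Cfsg.Agent.TypeM.CoverAut.eq_one_of_perm L.K h5 key
  have hfix : ∀ g ∈ centralizer ({L.t} : Set N), φ g = g := fun g hg =>
    congrArg (fun f : MulAut (centralizer ({L.t} : Set N)) => ((f ⟨g, hg⟩ : centralizer ({L.t} : Set N)) : N)) hone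
  rcases eq_one_or_conj L hn (gen L hG) hfix with h1 | h1
  · apply h.ne
    have h3 : x ∈ centralizer (N : Set G) := by
      rw [mem_centralizer_iff]
      intro s hs
      have h4 : ((φ ⟨s, hs⟩ : N) : G) = s := by rw [h1]; rfl
      rw [hφ, cn_coe] at h4
      exact (mul_inv_eq_iff_eq_mul.1 h4).symm
    rwa [h.cent, mem_bot] at h3
  · have h3 : (L.t : G)⁻¹ * x ∈ centralizer (N : Set G) := by
      rw [mem_centralizer_iff]
      intro s hs
      have h4 : ((φ ⟨s, hs⟩ : N) : G) = (L.t : G) * s * (L.t : G)⁻¹ := by rw [h1]; rfl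
      rw [hφ, cn_coe] at h4
      calc s * ((L.t : G)⁻¹ * x) = (L.t : G)⁻¹ * ((L.t : G) * s * (L.t : G)⁻¹) * x := by group
        _ = (L.t : G)⁻¹ * (x * s * x⁻¹) * x := by rw [← h4]
        _ = (L.t : G)⁻¹ * x * s := by group
    rw [h.cent, mem_bot, inv_mul_eq_one] at h3
    apply not_sq h
    rw [← h3]
    exact congrArg Subtype.val L.t_mul_t

end ctx

end Cfsg.Agent.H983.TwoMT
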